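import Groth.Agent.LocalCrit.Flatness
import Mathlib

/-!
# Étale near the closed part
-/

set_option autoImplicit false
set_option linter.style.haveILetI false

set_option linter.unusedSectionVars false

universe u

open TensorProduct

noncomputable section

namespace Groth.Agent.PBC37

variable {R S : Type u} [CommRing R] [IsNoetherianRing R] [CommRing S] [Algebra R S] [Module.Finite R S]
  (J : Ideal R)

attribute [local instance] Algebra.TensorProduct.rightAlgebra in
theorem exists_smul_kaehler_eq_zero (h : Algebra.Etale (R ⧸ J) ((R ⧸ J) ⊗[R] S)) :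
    ∃ r : R, r - 1 ∈ J ∧ ∀ w : Ω[S⁄R], r • w = 0 := by
  haveI : Module.Finite R Ω[S⁄R] := Module.Finite.trans S _
  haveI : Subsingleton ((R ⧸ J) ⊗[R] Ω[S⁄R]) :=
    (KaehlerDifferential.tensorKaehlerEquivBase R (R ⧸ J) S ((R ⧸ J) ⊗[R] S)).toEquiv.subsingleton
  have hle : (⊤ : Submodule R Ω[S⁄R]) ≤ J • ⊤ := by
    intro w _
    rw [← Submodule.Quotient.mk_eq_zero]
    exact (TensorProduct.quotTensorEquivQuotSMul Ω[S⁄R] J).symm.toEquiv.subsingleton.elim _ _
  obtain ⟨r, hr, hr'⟩ := Submodule.exists_sub_one_mem_and_smul_eq_zero_of_fg_of_le_smul J ⊤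
    Module.Finite.fg_top hle
  exact ⟨r, hr, fun w => hr' w trivial⟩

theorem flat_quotient_atPrime (p : Ideal R) [p.IsPrime] (K : Ideal R)
    (hflat : Module.Flat (R ⧸ K) ((R ⧸ K) ⊗[R] S)) :
    Module.Flat (Localization.AtPrime p ⧸ K.map (algebraMap R (Localization.AtPrime p)))
      ((Localization.AtPrime p ⧸ K.map (algebraMap R (Localization.AtPrime p))) ⊗[Localization.AtPrime p]
        (Localization.AtPrime p ⊗[R] S)) := by
  let Rp := Localization.AtPrime p
  let Q := Rp ⧸ K.map (algebraMap R Rp)
  letI : Algebra (R ⧸ K) Q := (Ideal.quotientMap (K.map (algebraMap R Rp)) (algebraMap R Rp) Ideal.le_comap_map).toAlgebra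
  haveI : IsScalarTower R (R ⧸ K) Q := IsScalarTower.of_algebraMap_eq fun x => rfl
  haveI := hflat
  exact Module.Flat.of_linearEquiv
    ((AlgebraTensorModule.cancelBaseChange R (R ⧸ K) Q Q S).trans
      (AlgebraTensorModule.cancelBaseChange R Rp Q Q S).symm).symm

/-- A finite algebra, étale modulo all powers of an ideal, is étale near the closed part. -/
theorem exists_etale_away (h : ∀ n : ℕ, Algebra.Etale (R ⧸ J ^ (n + 1)) ((R ⧸ J ^ (n + 1)) ⊗[R] S))
    (p : Ideal R) [p.IsPrime] (hp : J ≤ p) :
    ∃ g : R, g ∉ p ∧ Algebra.Etale R (Localization.Away (algebraMap R S g)) := by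
  let Rp := Localization.AtPrime p
  obtain ⟨r, hr, hr0⟩ := exists_smul_kaehler_eq_zero (J ^ (0 + 1)) (h 0)
  have hrp : r ∉ p := fun hrp => (‹p.IsPrime›).ne_top <| (Ideal.eq_top_iff_one _).2 <| by
    simpa using sub_mem hrp (hp (Ideal.pow_le_self (Nat.succ_ne_zero 0) hr))
  haveI : Module.Flat Rp (Rp ⊗[R] S) := by
    refine LocalCrit.flat_of_forall_quotient_pow (B := Rp) (J.map (algebraMap R Rp)) ?_ fun n => ?_
    · rw [Algebra.algebraMap_self, Ideal.map_id, IsLocalRing.jacobson_eq_maximalIdeal ⊥ bot_ne_top,
        ← Localization.AtPrime.map_eq_maximalIdeal]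
      exact Ideal.map_mono hp
    · rw [← Ideal.map_pow]
      haveI : Module.Flat (Rp ⧸ (J ^ n).map (algebraMap R Rp))
          ((Rp ⧸ (J ^ n).map (algebraMap R Rp)) ⊗[Rp] (Rp ⊗[R] S)) := by
        refine flat_quotient_atPrime p _ ?_
        rcases n with _ | n
        · haveI : Subsingleton (R ⧸ J ^ 0) := Ideal.Quotient.subsingleton_iff.2 (by rw [pow_zero, Ideal.one_eq_top])
          infer_instance
        · haveI := h n
          infer_instance
      exact LocalCrit.keepsInjective_of_flat _ _
  have hfree : (⟨p, inferInstance⟩ : PrimeSpectrum R) ∈ Module.freeLocus R S :=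
    (Module.mem_freeLocus_iff_tensor _ Rp).2 Module.free_of_flat_of_isLocalRing
  haveI : Module.FinitePresentation R S := Module.finitePresentation_of_finite R S
  obtain ⟨_, ⟨g₁, rfl⟩, hg₁, hsub⟩ :=
    PrimeSpectrum.isTopologicalBasis_basic_opens.exists_subset_of_mem_open hfree Module.isOpen_freeLocus
  refine ⟨g₁ * r, fun hm => ((‹p.IsPrime›).mem_or_mem hm).elim hg₁ hrp, ?_⟩
  let g := g₁ * r
  let T := Localization.Away (algebraMap R S g)
  have hsub' : (PrimeSpectrum.basicOpen g : Set (PrimeSpectrum R)) ⊆ Module.freeLocus R S :=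
    fun q hq => hsub (PrimeSpectrum.basicOpen_mul_le_left g₁ r hq)
  haveI := Module.basicOpen_subset_freeLocus_iff.1 hsub'
  haveI : Module.Flat R (LocalizedModule.Away g S) := Module.Flat.trans R (Localization.Away g) _
  haveI : IsLocalizedModule (Submonoid.powers g) (IsScalarTower.toAlgHom R S T).toLinearMap := by
    haveI : IsLocalization (Algebra.algebraMapSubmonoid S (Submonoid.powers g)) T := by
      rw [Algebra.algebraMapSubmonoid, Submonoid.map_powers]
      exact inferInstanceAs (IsLocalization.Away (algebraMap R S g) T)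
    exact isLocalizedModule_iff_isLocalization.mpr this
  haveI : Module.Flat R T := Module.Flat.of_linearEquiv
    (IsLocalizedModule.iso (Submonoid.powers g) (IsScalarTower.toAlgHom R S T).toLinearMap).symm
  haveI : Algebra.FormallyUnramified R T := by
    rw [Algebra.formallyUnramified_iff]
    haveI : Algebra.FormallyUnramified S T := Algebra.FormallyUnramified.of_isLocalization (Submonoid.powers (algebraMap R S g))
    constructor
    intro a b
    have hsurj : Function.Surjective (KaehlerDifferential.mapBaseChange R S T) := fun w =>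
      (KaehlerDifferential.exact_mapBaseChange_map R S T w).1 (Subsingleton.elim _ _)
    suffices ∀ z : T ⊗[S] Ω[S⁄R], z = 0 by
      obtain ⟨a', rfl⟩ := hsurj a
      obtain ⟨b', rfl⟩ := hsurj b
      rw [this a', this b']
    intro z
    have hu : IsUnit (algebraMap S T (algebraMap R S r)) :=
      isUnit_of_dvd_unit (map_dvd (algebraMap S T) (map_dvd (algebraMap R S) (dvd_mul_left r g₁)))
        (IsLocalization.Away.algebraMap_isUnit (algebraMap R S g))
    refine hu.smul_left_cancel.1 (Eq.trans ?_ (smul_zero _).symm)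
    induction z using TensorProduct.induction_on with
    | zero => exact smul_zero _
    | add x y hx hy => rw [smul_add, hx, hy, add_zero]
    | tmul t w => rw [algebraMap_smul, ← TensorProduct.tmul_smul, algebraMap_smul, hr0, TensorProduct.tmul_zero]
  haveI : Algebra.FinitePresentation R S := Algebra.FinitePresentation.of_finiteType.1 inferInstance
  haveI : Algebra.FinitePresentation S T := IsLocalization.Away.finitePresentation (algebraMap R S g)
  haveI : Algebra.FinitePresentation R T := Algebra.FinitePresentation.trans R S T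
  exact Algebra.Etale.of_formallyUnramified_of_flat

end Groth.Agent.PBC37
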