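import Groth.Agent.PBC37.Mul
import Groth.Agent.PBC37.EtaleNhd
import Groth.Agent.RelSpecX.Gamma
import Groth.Agent.RelSpecX.AffHom

/-!
# The algebraized cover
-/

set_option autoImplicit false
set_option linter.unusedSectionVars false
set_option linter.style.haveILetI false

universe u

open CategoryTheory CategoryTheory.Limits AlgebraicGeometry TopologicalSpace Opposite
open scoped TensorProduct

noncomputable section

namespace Groth.Agent.PBC37

set_option backward.isDefEq.respectTransparency false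
set_option backward.isDefEq.respectTransparency.types false

open Groth.Agent.AModX (res resR res_smul res_res)

variable {C : Type u} [CommRing C] {K : Ideal C} {Y : Scheme.{u}} [Y.Over (Spec (CommRingCat.of C))]
  {T : Tower K Y}

namespace Model

/-- Sections of the algebra. -/
def Sec (m : Model T) (U : Y.Opens) : Type u := Γ(m.M, U)

variable (m : Model T) [IsLocallyNoetherian Y] [IsAdicComplete K C] [IsProper (Y ↘ Spec (CommRingCat.of C))]

instance instAddCommGroup (U : Y.Opens) : AddCommGroup (m.Sec U) :=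
  inferInstanceAs (AddCommGroup Γ(m.M, U))

instance instCommRing (U : Y.Opens) : CommRing (m.Sec U) :=
  { (inferInstance : AddCommGroup (m.Sec U)) with
    mul := m.mul U
    one := m.one U
    mul_assoc := m.assoc' U
    mul_comm := m.mul_comm' U
    one_mul := m.one_mul' U
    mul_one := fun a => (m.mul_comm' U a _).trans (m.one_mul' U a)
    left_distrib := m.mul_add' U
    right_distrib := m.add_mul' U
    zero_mul := m.zero_mul' U
    mul_zero := m.mul_zero' U }

/-- Restriction. -/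
def resHom {U V : Y.Opens} (h : V ≤ U) : m.Sec U →+* m.Sec V where
  toFun a := res m.M h a
  map_one' := m.res_one h
  map_zero' := map_zero (res m.M h)
  map_add' := map_add (res m.M h)
  map_mul' := m.res_mul h

/-- The presheaf of rings. -/
def presh : TopCat.Presheaf CommRingCat.{u} Y.carrier where
  obj U := CommRingCat.of (m.Sec U.unop)
  map i := CommRingCat.ofHom (m.resHom i.unop.le)
  map_id U := CommRingCat.hom_ext (RingHom.ext fun a => ConcreteCategory.congr_hom (m.M.presheaf.map_id U) a)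
  map_comp i i' := CommRingCat.hom_ext (RingHom.ext fun a =>
    ConcreteCategory.congr_hom (m.M.presheaf.map_comp i i') a)

theorem isSheaf_presh : m.presh.IsSheaf :=
  (TopCat.Presheaf.isSheaf_iff_isSheaf_comp (forget CommRingCat) _).mpr
    (TopCat.Presheaf.isSheaf_of_iso
      (NatIso.ofComponents (fun _ => Iso.refl _) fun i => by ext; rfl :
        m.M.presheaf ⋙ forget AddCommGrpCat ≅ m.presh ⋙ forget CommRingCat)
      ((TopCat.Presheaf.isSheaf_iff_isSheaf_comp (forget AddCommGrpCat) _).mp (Scheme.Modules.isSheaf m.M)))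

omit [IsAdicComplete K C] [IsProper (Y ↘ Spec (CommRingCat.of C))] in
theorem e_app (U : Y.Opens) (r : Γ(Y, U)) :
    m.e.app U (show Γ(Coh.structureModule Y, U) from r) = r • m.one U :=
  (congrArg (m.e.app U) (show (show Γ(Coh.structureModule Y, U) from r) =
    r • (show Γ(Coh.structureModule Y, U) from (1 : Γ(Y, U))) from (mul_one r).symm)).trans
    (Scheme.Modules.Hom.app_smul m.e r _)

instance instModule (U : Y.Opens) : Module Γ(Y, U) (m.Sec U) :=
  inferInstanceAs (Module Γ(Y, U) Γ(m.M, U))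

instance instAlgebra (U : Y.Opens) : Algebra Γ(Y, U) (m.Sec U) :=
  Algebra.ofModule (m.smul_mul' U) (fun r a b => m.mul_smul' U r a b)

/-- The structure map on sections. -/
abbrev strHom (U : Y.Opens) : Γ(Y, U) →+* m.Sec U := algebraMap Γ(Y, U) (m.Sec U)

theorem strHom_apply (U : Y.Opens) (r : Γ(Y, U)) : m.strHom U r = r • (1 : m.Sec U) := rfl

theorem strHom_mul (U : Y.Opens) (r : Γ(Y, U)) (a : m.Sec U) : m.strHom U r * a = r • a :=
  (Algebra.smul_def r a).symm

/-- The structure map. -/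
def str : Y.presheaf ⟶ m.presh where
  app U := CommRingCat.ofHom (m.strHom U.unop)
  naturality U V i := CommRingCat.hom_ext (RingHom.ext fun r => by
    show (show Γ(Y, V.unop) from Y.presheaf.map i r) • m.one V.unop =
      res m.M i.unop.le ((show Γ(Y, U.unop) from r) • m.one U.unop)
    rw [res_smul, res_one]
    rfl)

theorem isQC_presh : RelSpec.IsQC m.presh m.str := by
  intro U hU r
  let D := Y.basicOpen r
  let ρ : m.Sec U →+* m.Sec D := m.resHom (Y.basicOpen_le r)
  let ρO := resR (X := Y) (Y.basicOpen_le r)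
  letI := (m.presh.map (homOfLE (Y.basicOpen_le r)).op).hom.toAlgebra
  have hρ : ∀ s, ρ (m.strHom U s) = m.strHom D (ρO s) := fun s => by
    show res m.M (Y.basicOpen_le r) (s • m.one U) = ρO s • m.one D
    rw [res_smul, res_one]
  refine (isLocalization_iff _ _).mpr ⟨fun ⟨_, k, rfl⟩ => ?_, fun z => ?_, fun {x y} hxy => ?_⟩
  · show IsUnit (ρ (m.strHom U r ^ k))
    rw [map_pow, hρ]
    exact ((RingedSpace.isUnit_res_basicOpen Y.toRingedSpace r).map (m.strHom D)).pow k
  · obtain ⟨k, t, ht⟩ := QCoh.exists_pow_smul_eq_map m.coh.1 hU r (show Γ(m.M, D) from z)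
    refine ⟨((show m.Sec U from t), ⟨m.strHom U r ^ k, k, rfl⟩), ?_⟩
    show (show m.Sec D from z) * ρ (m.strHom U r ^ k) = ρ (show m.Sec U from t)
    rw [mul_comm, ← map_pow, hρ, strHom_mul, map_pow]
    exact ht.symm
  · let x' : m.Sec U := x
    let y' : m.Sec U := y
    have hxy' : ρ x' = ρ y' := hxy
    obtain ⟨k, hk⟩ := QCoh.exists_pow_smul_eq_zero m.coh.1 hU r (show Γ(m.M, U) from x' - y')
      (show ρ (x' - y') = 0 by rw [map_sub, hxy', sub_self])
    refine ⟨⟨m.strHom U r ^ k, k, rfl⟩, ?_⟩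
    show m.strHom U r ^ k * x' = m.strHom U r ^ k * y'
    rw [← sub_eq_zero, ← mul_sub, ← map_pow, strHom_mul]
    exact hk

/-- The algebra. -/
def alg : RelSpec.QCAlg Y where
  presheaf := m.presh
  isSheaf := m.isSheaf_presh
  str := m.str
  isQC := m.isQC_presh

/-- The projections as ring maps. -/
def qRing (n : ℕ) (U : Y.Opens) : m.Sec U →+* Γ(T.E n, T.p n ⁻¹ᵁ U) :=
  { m.qs n U with
    map_one' := m.qs_one n U
    map_mul' := m.qs_mul n U }

theorem qRing_strHom (n : ℕ) (U : Y.Opens) (r : Γ(Y, U)) : m.qRing n U (m.strHom U r) = (T.p n).app U r :=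
  (m.qs_smul n U r (m.one U)).trans (by rw [qs_one, mul_one])

theorem qRing_surjective (n : ℕ) {U : Y.Opens} (hU : IsAffineOpen U) : Function.Surjective (m.qRing n U) :=
  m.q_surj n hU

theorem ker_qRing (n : ℕ) {U : Y.Opens} (hU : IsAffineOpen U) :
    RingHom.ker (m.qRing n U) = ((K ^ (n + 1)).map (scalU Y U)).map (m.strHom U) := by
  refine le_antisymm (fun s hs => ?_) ?_
  · refine Submodule.smul_induction_on ((m.q_eq_zero_iff n hU s).1 hs) (fun r hr t _ => ?_)
      (fun a b ha hb => Ideal.add_mem _ ha hb)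
    show (r • (show m.Sec U from t) : m.Sec U) ∈ _
    rw [← m.strHom_mul U r]
    exact Ideal.mul_mem_right _ _ (Ideal.mem_map_of_mem _ hr)
  · rw [Ideal.map_le_iff_le_comap, Ideal.map_le_iff_le_comap]
    intro c hc
    show m.qRing n U (m.strHom U (scalU Y U c)) = 0
    rw [qRing_strHom]
    exact T.killed n U c hc

theorem finite_strHom {U : Y.Opens} (hU : IsAffineOpen U) : (m.strHom U).Finite := by
  haveI : Module.Finite Γ(Y, U) Γ(m.M, U) := QCoh.finite_sections m.coh hU
  exact RingHom.finite_algebraMap.2 (show Module.Finite Γ(Y, U) Γ(m.M, U) from inferInstance)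

instance isFinite_π : IsFinite m.alg.π where
  finite_app U hU := by
    haveI := RelSpecX.isIso_gammaAff m.alg U hU
    have h : m.alg.π.app U = m.alg.str.app (op U) ≫ inv (m.alg.gammaAff U hU) := by
      rw [IsIso.eq_comp_inv, m.alg.π_app_gammaAff]
    rw [h, CommRingCat.hom_comp]
    exact RingHom.Finite.comp (RingHom.Finite.of_surjective _
      (ConcreteCategory.bijective_of_isIso (inv (m.alg.gammaAff U hU))).2) (m.finite_strHom hU)

theorem etale_quotient {U : Y.Opens} (hU : IsAffineOpen U) (n : ℕ) :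
    Algebra.Etale (Γ(Y, U) ⧸ (K.map (scalU Y U)) ^ (n + 1))
      ((Γ(Y, U) ⧸ (K.map (scalU Y U)) ^ (n + 1)) ⊗[Γ(Y, U)] m.Sec U) := by
  let R := Γ(Y, U)
  let J := (K.map (scalU Y U)) ^ (n + 1)
  have hJ : (K ^ (n + 1)).map (scalU Y U) = J := Ideal.map_pow _ _ _
  obtain ⟨ψ, hψ, hψe⟩ := T.etale n ⟨U, hU⟩
  let L := Γ(T.E n, T.p n ⁻¹ᵁ U)
  let ψ' : R ⧸ J →+* L := ψ.comp (Ideal.quotEquivOfEq hJ.symm).toRingHom
  have hψ' : ψ'.Etale := RingHom.Etale.respectsIso.2 ψ (Ideal.quotEquivOfEq hJ.symm) hψe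
  letI : Algebra (R ⧸ J) L := ψ'.toAlgebra
  letI : Algebra R L := ((T.p n).app U).hom.toAlgebra
  haveI : IsScalarTower R (R ⧸ J) L := IsScalarTower.of_algebraMap_eq fun r => (congr($hψ r)).symm
  haveI : Algebra.Etale (R ⧸ J) L := hψ'
  let γ : m.Sec U →ₐ[R] L := { m.qRing n U with commutes' := m.qRing_strHom n U }
  let Φ : (R ⧸ J) ⊗[R] m.Sec U →ₐ[R ⧸ J] L :=
    Algebra.TensorProduct.lift (Algebra.ofId (R ⧸ J) L) γ fun _ _ => Commute.all _ _
  refine Algebra.Etale.of_equiv (AlgEquiv.ofBijective Φ ⟨?_, ?_⟩).symm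
  · rw [injective_iff_map_eq_zero]
    intro z hz
    obtain ⟨s, rfl⟩ := TensorProduct.mk_surjective R (m.Sec U) (R ⧸ J) Ideal.Quotient.mk_surjective z
    have hs : s ∈ RingHom.ker (m.qRing n U) := by
      rw [RingHom.mem_ker, ← hz]
      show _ = Φ ((1 : R ⧸ J) ⊗ₜ[R] s)
      rw [Algebra.TensorProduct.lift_tmul, map_one, one_mul]
      rfl
    rw [m.ker_qRing n hU, hJ] at hs
    show (1 : R ⧸ J) ⊗ₜ[R] s = 0
    have key : J.map (m.strHom U) ≤
        RingHom.ker (Algebra.TensorProduct.includeRight : m.Sec U →ₐ[R] (R ⧸ J) ⊗[R] m.Sec U).toRingHom := by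
      rw [Ideal.map_le_iff_le_comap]
      intro r hr
      show (1 : R ⧸ J) ⊗ₜ[R] algebraMap R (m.Sec U) r = 0
      rw [Algebra.algebraMap_eq_smul_one r, TensorProduct.tmul_smul, TensorProduct.smul_tmul',
        Algebra.smul_def, mul_one]
      show Ideal.Quotient.mk J r ⊗ₜ[R] (1 : m.Sec U) = 0
      rw [Ideal.Quotient.eq_zero_iff_mem.2 hr, TensorProduct.zero_tmul]
    exact key hs
  · intro l
    obtain ⟨s, hs⟩ := m.qRing_surjective n hU l
    refine ⟨1 ⊗ₜ s, ?_⟩
    rw [Algebra.TensorProduct.lift_tmul, map_one, one_mul]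
    exact hs

theorem exists_etale_chart {y : Y} (hy0 : (Y ↘ Spec (CommRingCat.of C)).base y ∈ PrimeSpectrum.zeroLocus (K : Set C)) :
    ∃ (D : Y.Opens) (hD : IsAffineOpen D), y ∈ D ∧ Etale (m.alg.ι D hD ≫ m.alg.π) := by
  obtain ⟨_, ⟨U, hU, rfl⟩, hyU, -⟩ := Y.isBasis_affineOpens.exists_subset_of_mem_open (Set.mem_univ y) isOpen_univ
  haveI : IsNoetherianRing Γ(Y, U) := IsLocallyNoetherian.component_noetherian ⟨U, hU⟩
  let R := Γ(Y, U)
  let J := K.map (scalU Y U)
  haveI : Module.Finite R (m.Sec U) := RingHom.finite_algebraMap.1 (m.finite_strHom hU)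
  let p := (hU.primeIdealOf ⟨y, hyU⟩).asIdeal
  letI : Algebra R (Y.presheaf.stalk y) := Y.presheaf.algebra_section_stalk ⟨y, hyU⟩
  haveI : IsLocalization.AtPrime (Y.presheaf.stalk y) p := hU.isLocalization_stalk ⟨y, hyU⟩
  have hp : ∀ r : R, r ∈ p ↔ y ∉ Y.basicOpen r := fun r => by
    rw [Y.mem_basicOpen r y hyU]
    have h1 := IsLocalization.AtPrime.isUnit_to_map_iff (Y.presheaf.stalk y) p r
    exact ⟨fun h h' => h1.1 h' h, fun h => by_contra fun h' => h (h1.2 h')⟩
  have hle : J ≤ p := fun r hr => (hp r).2 fun hb =>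
    germ_scalU_mem (K := K) hyU hy0 hr ((Y.mem_basicOpen r y hyU).1 hb)
  obtain ⟨g, hg, het⟩ := exists_etale_away (S := m.Sec U) J (fun n => m.etale_quotient hU n) p hle
  let D := Y.basicOpen g
  have hyD : y ∈ D := by_contra fun h => hg ((hp g).2 h)
  refine ⟨D, hU.basicOpen g, hyD, ?_⟩
  let ρ : m.Sec U →+* m.Sec D := m.resHom (Y.basicOpen_le g)
  letI : Algebra (m.Sec U) (m.Sec D) := ρ.toAlgebra
  haveI : IsLocalization.Away (algebraMap R (m.Sec U) g) (m.Sec D) := m.isQC_presh U hU g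
  letI : Algebra R (m.Sec D) := (ρ.comp (m.strHom U)).toAlgebra
  haveI : IsScalarTower R (m.Sec U) (m.Sec D) := IsScalarTower.of_algebraMap_eq fun _ => rfl
  haveI : Algebra.Etale R (m.Sec D) :=
    Algebra.Etale.of_equiv ((IsLocalization.algEquiv (Submonoid.powers (algebraMap R (m.Sec U) g))
      (Localization.Away (algebraMap R (m.Sec U) g)) (m.Sec D)).restrictScalars R)
  have e : m.alg.ι D (hU.basicOpen g) ≫ m.alg.π =
      Spec.map (CommRingCat.ofHom (ρ.comp (m.strHom U))) ≫ hU.fromSpec := by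
    rw [m.alg.ι_π, ← hU.map_fromSpec (hU.basicOpen g) (homOfLE (Y.basicOpen_le g)).op, ← Category.assoc,
      ← Spec.map_comp]
    refine congrArg (fun φ => Spec.map φ ≫ hU.fromSpec) ?_
    exact m.str.naturality (homOfLE (Y.basicOpen_le g)).op
  rw [e]
  haveI : Etale (Spec.map (CommRingCat.ofHom (ρ.comp (m.strHom U)))) :=
    (HasRingHomProperty.Spec_iff (P := @Etale)).2 (RingHom.etale_algebraMap.2 ‹Algebra.Etale R (m.Sec D)›)
  infer_instance

instance etale_π : Etale m.alg.π := by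
  haveI := IsAdicComplete.henselianRing C K
  let O : m.alg.spec.Opens := ⨆ (D : Y.Opens) (hD : IsAffineOpen D)
    (_ : Etale (m.alg.ι D hD ≫ m.alg.π)), (m.alg.ι D hD).opensRange
  have hO : O = ⊤ := by
    by_contra hne
    obtain ⟨w, hw, hwO⟩ := PBC50.nonempty_inter_preimage_zeroLocus K (m.alg.π ≫ (Y ↘ Spec (CommRingCat.of C)))
      (D := (O : Set m.alg.spec)ᶜ) O.2.isClosed_compl (Set.nonempty_compl.2 fun h => hne (Opens.ext h))
    obtain ⟨D, hD, hwD, het⟩ := m.exists_etale_chart (y := m.alg.π.base w) hw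
    have hr : w ∈ (m.alg.ι D hD).opensRange := by
      rw [← m.alg.π_preimage D hD]
      exact hwD
    exact hwO (Opens.mem_iSup.2 ⟨D, Opens.mem_iSup.2 ⟨hD, Opens.mem_iSup.2 ⟨het, hr⟩⟩⟩)
  refine IsZariskiLocalAtSource.of_iSup_eq_top (P := @Etale)
    (fun i : {p : Σ' (D : Y.Opens), IsAffineOpen D // Etale (m.alg.ι p.1 p.2 ≫ m.alg.π)} =>
      (m.alg.ι i.1.1 i.1.2).opensRange) ?_ fun i => ?_
  · refine top_le_iff.1 (hO.symm.le.trans ?_)
    exact iSup_le fun D => iSup_le fun hD => iSup_le fun het =>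
      le_iSup (fun i : {p : Σ' (D : Y.Opens), IsAffineOpen D // Etale (m.alg.ι p.1 p.2 ≫ m.alg.π)} =>
        (m.alg.ι i.1.1 i.1.2).opensRange) ⟨⟨D, hD⟩, het⟩
  · haveI := i.2
    rw [← Scheme.Hom.isoOpensRange_inv_comp (m.alg.ι i.1.1 i.1.2), Category.assoc]
    infer_instance

end Model

end Groth.Agent.PBC37
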