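import Groth.Agent.PBC37.TowerModule
import Groth.Agent.S0004

/-!
# The algebraization of the module of a tower
-/

set_option autoImplicit false
set_option linter.style.haveILetI false

universe u

open CategoryTheory CategoryTheory.Limits AlgebraicGeometry TopologicalSpace Opposite

noncomputable section

namespace Groth.Agent.PBC37

set_option backward.isDefEq.respectTransparency false
set_option backward.isDefEq.respectTransparency.types false

variable {C : Type u} [CommRing C] {K : Ideal C} {Y : Scheme.{u}} [Y.Over (Spec (CommRingCat.of C))]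

/-- A coherent module with its projections to a tower. -/
structure Model (T : Tower K Y) where
  /-- the module -/
  M : Y.Modules
  coh : Coh.IsCoh M
  /-- the projections -/
  q : ∀ n, M ⟶ T.obj n
  q_tr : ∀ n, q (n + 1) ≫ T.tr n = q n
  q_surj : ∀ (n : ℕ) {U : Y.Opens}, IsAffineOpen U → Function.Surjective ((q n).app U)
  q_eq_zero_iff : ∀ (n : ℕ) {U : Y.Opens}, IsAffineOpen U → ∀ s : Γ(M, U),
    (q n).app U s = 0 ↔ s ∈ (K ^ (n + 1)).map (FFun.φsec U) • (⊤ : Submodule Γ(Y, U) Γ(M, U))
  existsUnique_lift : ∀ (P : Y.Modules), Coh.IsCoh P → ∀ h : ∀ n, P ⟶ T.obj n,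
    (∀ n, h (n + 1) ≫ T.tr n = h n) → ∃! φ : P ⟶ M, ∀ n, φ ≫ q n = h n

variable [IsNoetherianRing C] [IsAdicComplete K C] [IsProper (Y ↘ Spec (CommRingCat.of C))]

theorem nonempty_model (T : Tower K Y) : Nonempty (Model T) := by
  haveI : IsLocallyNoetherian Y := LocallyOfFiniteType.isLocallyNoetherian (Y ↘ Spec (CommRingCat.of C))
  obtain ⟨M, hM, ⟨e⟩⟩ := (S0004.result C K Y).2 T.system T.isCohFormal
  let q : ∀ n, M ⟶ T.obj n := fun n => Formal.modPowπ K (n + 1) M ≫ e.hom.app (op n)
  have hmap : ∀ n, (Formal.completion K M).map (homOfLE (Nat.le_succ n)).op = Formal.modPowTrans K (n + 1) M :=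
    fun n => Functor.ofOpSequence_map_homOfLE_succ (X := fun n => Formal.modPow K (n + 1) M) (fun n => Formal.modPowTrans K (n + 1) M) n
  have hnat : ∀ n, Formal.modPowTrans K (n + 1) M ≫ e.hom.app (op n) = e.hom.app (op (n + 1)) ≫ T.tr n := fun n => by
    rw [← hmap n, ← T.system_map n]
    exact e.hom.naturality _
  have hqtr : ∀ n, q (n + 1) ≫ T.tr n = q n := fun n => by
    show (Formal.modPowπ K (n + 1 + 1) M ≫ e.hom.app (op (n + 1))) ≫ T.tr n = _
    rw [Category.assoc, ← hnat, ← Category.assoc, Formal.modPowπ_trans]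
  have hbij : ∀ n (U : Y.Opens), Function.Bijective ((e.hom.app (op n)).app U) := fun n U =>
    ConcreteCategory.bijective_of_isIso ((e.hom.app (op n)).app U)
  refine ⟨⟨M, hM, q, hqtr, fun n U hU => ?_, fun n U hU s => ?_, fun P hP h hh => ?_⟩⟩
  · have hC : Coh.IsQCoh (Formal.modPow K (n + 1) M) :=
      QCoh.isQCoh_cokernel (QCoh.isQCoh_colimit (Discrete.functor fun _ : ↥(K ^ (n + 1)) => M) fun _ => hM.1) hM.1 _
    exact (hbij n U).2.comp (QCoh.app_surjective_of_epi hM.1 hC (cokernel.π (Formal.smulFamily (K ^ (n + 1)) M)) hU)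
  · refine Iff.trans ?_ ⟨FFun.mem_of_π_app_eq_zero hM.1 (K ^ (n + 1)) hU, FFun.π_app_eq_zero M (K ^ (n + 1)) U⟩
    exact map_eq_zero_iff ((e.hom.app (op n)).app U).hom (hbij n U).1
  · let c : ∀ n, Formal.modPow K (n + 1) P ⟶ T.obj n := fun n =>
      cokernel.desc _ (h n) (Algz7.smulFamily_comp_eq_zero (T.killedBy n) (h n))
    have hc : ∀ n, Formal.modPowπ K (n + 1) P ≫ c n = h n := fun n => cokernel.π_desc _ _ _
    let ψ : Formal.completion K P ⟶ Formal.completion K M :=
      NatTrans.ofOpSequence (fun n => c n ≫ e.inv.app (op n)) (fun n => by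
        rw [show (Formal.completion K P).map (homOfLE (Nat.le_succ n)).op = Formal.modPowTrans K (n + 1) P from
          Functor.ofOpSequence_map_homOfLE_succ (X := fun n => Formal.modPow K (n + 1) P) (fun n => Formal.modPowTrans K (n + 1) P) n, hmap n,
          ← cancel_mono (e.hom.app (op n))]
        simp only [Category.assoc, Iso.inv_hom_id_app, hnat, Iso.inv_hom_id_app_assoc]
        erw [Category.comp_id]
        haveI : Epi (Formal.modPowπ K (n + 1 + 1) P) := coequalizer.π_epi
        rw [← cancel_epi (Formal.modPowπ K (n + 1 + 1) P), ← Category.assoc, Formal.modPowπ_trans, hc,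
          ← Category.assoc, hc, hh])
    have hiff : ∀ (φ : P ⟶ M) (n : ℕ), φ ≫ q n = h n ↔
        Formal.modPowπ K (n + 1) P ≫ ψ.app (op n) = φ ≫ Formal.modPowπ K (n + 1) M := fun φ n => by
      rw [← cancel_mono (e.hom.app (op n)) (g := Formal.modPowπ K (n + 1) P ≫ ψ.app (op n))]
      show φ ≫ q n = h n ↔ (Formal.modPowπ K (n + 1) P ≫ c n ≫ e.inv.app (op n)) ≫ e.hom.app (op n) =
        (φ ≫ Formal.modPowπ K (n + 1) M) ≫ e.hom.app (op n)
      simp only [Category.assoc, Iso.inv_hom_id_app]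
      erw [Category.comp_id]
      rw [hc]
      exact eq_comm
    obtain ⟨φ, hφ, huniq⟩ := (S0004.result C K Y).1 P M hP hM ψ
    exact ⟨φ, fun n => (hiff φ n).2 (hφ n), fun φ' hφ' => huniq φ' fun n => (hiff φ' n).1 (hφ' n)⟩

end Groth.Agent.PBC37
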