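import Mathlib

/-!
# Limits of base changes

Base change of a limit of schemes over a fixed scheme.
-/

set_option autoImplicit false
set_option linter.style.haveILetI false

set_option linter.unusedSectionVars false
set_option backward.isDefEq.respectTransparency false

universe u

open CategoryTheory CategoryTheory.Limits AlgebraicGeometry

noncomputable section

namespace Groth.Agent.PBC37

variable {I : Type u} [SmallCategory I] [IsCofiltered I] {Y S : Scheme.{u}} (g : Y ⟶ S)
  {D : I ⥤ Scheme.{u}} (h : ∀ i, D.obj i ⟶ S) (hn : ∀ {i j} (a : i ⟶ j), D.map a ≫ h j = h i)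
  {c : Cone D} (hc : IsLimit c) (t : c.pt ⟶ S) (ht : ∀ i, c.π.app i ≫ h i = t)

include ht in
theorem proj_w (i : I) : pullback.fst g t ≫ g = (pullback.snd g t ≫ c.π.app i) ≫ (h i) := by
  rw [Category.assoc, ht, pullback.condition]

/-- The base changes. -/
def bcDiagram : I ⥤ Scheme.{u} where
  obj i := pullback g ((h i))
  map {i j} a := pullback.lift (pullback.fst _ _) (pullback.snd _ _ ≫ D.map a) (by
    rw [Category.assoc, hn a, pullback.condition])
  map_id i := pullback.hom_ext (by simp) (by simp)
  map_comp a b := pullback.hom_ext (by simp) (by simp)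

/-- The cone of base changes. -/
def bcCone : Cone (bcDiagram g h hn) where
  pt := pullback g t
  π :=
    { app := fun i => pullback.lift (pullback.fst _ _) (pullback.snd _ _ ≫ c.π.app i) (proj_w g h t ht i)
      naturality := fun i j a => (Category.id_comp _).trans (pullback.hom_ext
        (by simp [bcDiagram]) (by simp [bcDiagram])) }

@[reassoc]
theorem bcCone_fst (i : I) : (bcCone g h hn t ht).π.app i ≫ pullback.fst g ((h i)) = pullback.fst g t :=
  pullback.lift_fst _ _ _

@[reassoc]
theorem bcCone_snd (i : I) :
    (bcCone g h hn t ht).π.app i ≫ pullback.snd g ((h i)) = pullback.snd g t ≫ c.π.app i :=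
  pullback.lift_snd _ _ _

/-- The base change of a limit is the limit of the base changes. -/
def isLimitBcCone : IsLimit (bcCone g h hn t ht) := by
  let i₀ : I := (IsCofiltered.nonempty (C := I)).some
  let u (s : Cone (bcDiagram g h hn)) : s.pt ⟶ Y := s.π.app i₀ ≫ pullback.fst _ _
  have hu : ∀ (s : Cone (bcDiagram g h hn)) (i : I), s.π.app i ≫ pullback.fst g ((h i)) = u s := fun s i => by
    obtain ⟨k, a, b, -⟩ : ∃ (k : I) (_ : k ⟶ i) (_ : k ⟶ i₀), True :=
      ⟨_, IsCofiltered.minToLeft i i₀, IsCofiltered.minToRight i i₀, trivial⟩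
    have e : ∀ {j} (a : k ⟶ j), s.π.app k ≫ pullback.fst g (h k) = s.π.app j ≫ pullback.fst g ((h j)) :=
      fun {j} a => by rw [← s.w a, Category.assoc]; simp [bcDiagram]
    rw [← e a, e b]
  let cD (s : Cone (bcDiagram g h hn)) : Cone D :=
    { pt := s.pt
      π :=
        { app := fun i => s.π.app i ≫ pullback.snd _ _
          naturality := fun i j a => (Category.id_comp _).trans (by
            rw [← s.w a, Category.assoc]
            simp [bcDiagram]) } }
  have hw : ∀ s : Cone (bcDiagram g h hn), u s ≫ g = hc.lift (cD s) ≫ t := fun s => by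
    rw [← ht i₀, ← Category.assoc, hc.fac, Category.assoc]
    show (s.π.app i₀ ≫ pullback.fst _ _) ≫ g = _
    rw [Category.assoc, pullback.condition]
    simp [cD]
  refine IsLimit.mk (fun s => pullback.lift (u s) (hc.lift (cD s)) (hw s)) (fun s i => ?_) fun s m hm => ?_
  · refine pullback.hom_ext ?_ ?_
    · rw [Category.assoc, bcCone_fst, pullback.lift_fst, hu]
    · rw [Category.assoc, bcCone_snd, pullback.lift_snd_assoc, hc.fac]
  · refine pullback.hom_ext ?_ ?_
    · rw [pullback.lift_fst, ← hu s i₀, ← hm i₀, Category.assoc, bcCone_fst]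
    · rw [pullback.lift_snd]
      refine hc.hom_ext fun i => ?_
      rw [hc.fac, Category.assoc, ← bcCone_snd g h hn t ht i, ← Category.assoc, hm]

end Groth.Agent.PBC37
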