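import Groth.Agent.PBC37.Model
import Groth.Agent.PBC37.BaseChangeLimit
import Groth.Agent.S12073
import Groth.Agent.PopescuLib.GRingCompletion
import Groth.Agent.PopescuLib.FPColim
import Groth.Agent.PopescuLib.Approx
import Groth.Agent.PopescuLib.Noetherian

/-!
# From complete rings to henselian pairs which are G-rings
-/

set_option autoImplicit false
set_option linter.style.haveILetI false

universe u

open CategoryTheory CategoryTheory.Limits AlgebraicGeometry TopologicalSpace Opposite
open Groth.Agent.Pi1Ext

noncomputable section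

namespace Groth.Agent.PBC37

set_option backward.isDefEq.respectTransparency false

/-- The lifting property over complete Noetherian rings. -/
def CompleteCase : Prop :=
  ∀ (C : Type u) [CommRing C] (K : Ideal C), IsNoetherianRing C → IsAdicComplete K C → EssSurjAt C K

/-- The spectrum of an algebra as a limit over its finitely presented models. -/
def fpSpecs (H C : Type u) [CommRing H] [CommRing C] [Algebra H C] :
    (PopescuLib.FPModel H C)ᵒᵖ ⥤ Scheme.{u} :=
  (PopescuLib.fpDiagram H C ⋙ Under.forget _).op ⋙ Scheme.Spec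

/-- The cone of models. -/
def fpSpecCone (H C : Type u) [CommRing H] [CommRing C] [Algebra H C] : Cone (fpSpecs H C) :=
  Scheme.Spec.mapCone ((Under.forget _).mapCocone (PopescuLib.fpCocone H C)).op

/-- It is a limit. -/
def isLimitFpSpecCone (H C : Type u) [CommRing H] [CommRing C] [Algebra H C] : IsLimit (fpSpecCone H C) :=
  haveI : IsConnected (PopescuLib.FPModel H C) := IsFiltered.isConnected _
  isLimitOfPreserves Scheme.Spec (isColimitOfPreserves (Under.forget _) (PopescuLib.fpIsColimit H C)).op

/-- The structure maps of the models. -/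
def fpToBase (H C : Type u) [CommRing H] [CommRing C] [Algebra H C] (P : (PopescuLib.FPModel H C)ᵒᵖ) :
    (fpSpecs H C).obj P ⟶ Spec (CommRingCat.of H) :=
  Spec.map (CommRingCat.ofHom (algebraMap H P.unop.Alg))

theorem fpToBase_w (H C : Type u) [CommRing H] [CommRing C] [Algebra H C] {P Q : (PopescuLib.FPModel H C)ᵒᵖ}
    (a : P ⟶ Q) : (fpSpecs H C).map a ≫ fpToBase H C Q = fpToBase H C P := by
  show Spec.map ((PopescuLib.fpDiagram H C).map a.unop).right ≫ Spec.map _ = Spec.map _
  rw [← Spec.map_comp]
  exact congrArg Spec.map (Under.w ((PopescuLib.fpDiagram H C).map a.unop))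

theorem gRingCase_of_completeCase (hC : CompleteCase.{u}) : GRingCase.{u} := by
  intro H _ J _ hG Y g _
  haveI : IsNoetherianRing H := hG.1
  let C := AdicCompletion J H
  haveI : IsNoetherianRing C := PopescuLib.noetherian_completion J
  have hreg : CAlg.IsRegularHom H C := PopescuLib.isRegularHom_adicCompletion H (fun m _ => hG.2 m) J
  let η : H →+* C := algebraMap H C
  let K : Ideal C := J.map η
  have hK : IsAdicComplete K C := AdicCompletion.isAdicComplete_self J (IsNoetherian.noetherian J)
  refine ⟨fun E₀ => ?_⟩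
  let sη := Spec.map (CommRingCat.ofHom η)
  let gC : pullback g sη ⟶ Spec (CommRingCat.of C) := pullback.snd g sη
  haveI : IsProper gC := MorphismProperty.pullback_snd (P := @IsProper) _ _ inferInstance
  -- the closed parts
  let θ : H ⧸ J →+* C ⧸ K := Ideal.quotientMap K η Ideal.le_comap_map
  have hθ : θ.comp (Ideal.Quotient.mk J) = (Ideal.Quotient.mk K).comp η := Ideal.quotientMap_comp_mk _
  let c : pullback gC (Spec.map (CommRingCat.ofHom (Ideal.Quotient.mk K))) ⟶
      pullback g (Spec.map (CommRingCat.ofHom (Ideal.Quotient.mk J))) :=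
    pullback.lift (pullback.fst _ _ ≫ pullback.fst _ _) (pullback.snd _ _ ≫ Spec.map (CommRingCat.ofHom θ)) (by
      rw [Category.assoc, Category.assoc, pullback.condition, pullback.condition_assoc, ← Spec.map_comp,
        ← Spec.map_comp, ← CommRingCat.ofHom_comp, ← CommRingCat.ofHom_comp, hθ])
  haveI := hC C K inferInstance hK gC
  let EC := (FEt.restrict (closedPart K gC)).objPreimage ((FEt.restrict c).obj E₀)
  let eC := (FEt.restrict (closedPart K gC)).objObjPreimageIso ((FEt.restrict c).obj E₀)
  -- descent to a finitely presented stage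
  have ht : ∀ P, (fpSpecCone H C).π.app P ≫ fpToBase H C P = sη := fun P => by
    show Spec.map _ ≫ Spec.map _ = _
    rw [← Spec.map_comp]
    exact congrArg Spec.map (Under.w ((PopescuLib.fpCocone H C).ι.app P.unop))
  let D := bcDiagram g (fpToBase H C) (fpToBase_w H C)
  haveI : CompactSpace Y := QuasiCompact.compactSpace_of_compactSpace g
  haveI : QuasiSeparatedSpace Y := quasiSeparatedSpace_of_quasiSeparated g
  haveI haffh : ∀ P, IsAffineHom (fpToBase H C P) := fun P =>
    inferInstanceAs (IsAffineHom (Spec.map (CommRingCat.ofHom (algebraMap H P.unop.Alg))))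
  haveI : ∀ P, IsAffineHom (pullback.fst g (fpToBase H C P)) := fun P =>
    MorphismProperty.pullback_fst (P := @IsAffineHom) _ _ (haffh P)
  haveI : ∀ P, CompactSpace (D.obj P) := fun P =>
    QuasiCompact.compactSpace_of_compactSpace (pullback.fst g (fpToBase H C P))
  haveI : ∀ P, QuasiSeparatedSpace (D.obj P) := fun P =>
    quasiSeparatedSpace_of_quasiSeparated (pullback.fst g (fpToBase H C P))
  haveI : ∀ (P Q : (PopescuLib.FPModel H C)ᵒᵖ) (a : P ⟶ Q), IsAffineHom (D.map a) := fun P Q a => by
    haveI : IsAffineHom (D.map a ≫ pullback.fst g (fpToBase H C Q)) := by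
      rw [show D.map a ≫ pullback.fst g (fpToBase H C Q) = pullback.fst _ _ from pullback.lift_fst _ _ _]
      infer_instance
    exact IsAffineHom.of_comp (D.map a) (pullback.fst g (fpToBase H C Q))
  obtain ⟨P, EP, ⟨eP⟩⟩ := (S12073.result D (bcCone g (fpToBase H C) (fpToBase_w H C) (c := fpSpecCone H C) sη ht)
    (isLimitBcCone g (fpToBase H C) (fpToBase_w H C) (isLimitFpSpecCone H C) sη ht)).1 EC
  -- a point of the stage approximating the completion
  obtain ⟨B, _, _, hB, γ, h, hγ⟩ := PopescuLib.indSmooth_of_isRegularHom hreg P.unop.Alg inferInstance P.unop.toB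
  haveI := hB
  obtain ⟨τ, hτ⟩ := PopescuLib.exists_approx_point J B h 1
  let σ : P.unop.Alg →ₐ[H] H := τ.comp γ
  have hσ : ((AdicCompletion.evalOneₐ J).toRingHom).comp P.unop.toB.toRingHom =
      (Ideal.Quotient.mk J).comp σ.toRingHom := by
    refine RingHom.ext fun x => ?_
    show AdicCompletion.evalOneₐ J (P.unop.toB x) = Ideal.Quotient.mk J (τ (γ x))
    have e := hτ (γ x)
    rw [map_sub, sub_eq_zero, AlgHom.commutes] at e
    rw [← AdicCompletion.factorₐ_evalₐ_one, ← AlgHom.congr_fun hγ x, AlgHom.comp_apply, e]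
    rfl
  let s : Y ⟶ D.obj P := pullback.lift (𝟙 Y) (g ≫ Spec.map (CommRingCat.ofHom σ.toRingHom)) (by
    rw [Category.id_comp, Category.assoc]
    show _ = g ≫ Spec.map (CommRingCat.ofHom σ.toRingHom) ≫ Spec.map (CommRingCat.ofHom (algebraMap H P.unop.Alg))
    rw [← Spec.map_comp, ← CommRingCat.ofHom_comp,
      show σ.toRingHom.comp (algebraMap H P.unop.Alg) = RingHom.id H from σ.comp_algebraMap,
      CommRingCat.ofHom_id, Spec.map_id]
    exact (Category.comp_id g).symm)
  -- comparison on the closed part
  let ev : C →+* H ⧸ J := (AdicCompletion.evalOneₐ J).toRingHom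
  have hev : ev.comp η = Ideal.Quotient.mk J := AdicCompletion.evalOneₐ_comp_algebraMap_eq_mk J
  have hKev : K ≤ RingHom.ker ev := by
    show J.map η ≤ _
    rw [Ideal.map_le_iff_le_comap]
    intro x hx
    show ev (η x) = 0
    rw [← RingHom.comp_apply, hev]
    exact Ideal.Quotient.eq_zero_iff_mem.2 hx
  let evb : C ⧸ K →+* H ⧸ J := Ideal.Quotient.lift K ev hKev
  let d : pullback g (Spec.map (CommRingCat.ofHom (Ideal.Quotient.mk J))) ⟶
      pullback gC (Spec.map (CommRingCat.ofHom (Ideal.Quotient.mk K))) :=
    pullback.lift (pullback.lift (pullback.fst _ _) (pullback.snd _ _ ≫ Spec.map (CommRingCat.ofHom ev)) (by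
        rw [Category.assoc, ← Spec.map_comp, ← CommRingCat.ofHom_comp, hev, pullback.condition]))
      (pullback.snd _ _ ≫ Spec.map (CommRingCat.ofHom evb)) (by
        rw [pullback.lift_snd, Category.assoc, ← Spec.map_comp, ← CommRingCat.ofHom_comp]
        rfl)
  have hdc : 𝟙 _ = d ≫ c := by
    haveI : Mono (closedPart J g) := inferInstance
    rw [← cancel_mono (closedPart J g)]
    simp [d, c, closedPart]
  have hsd : closedPart J g ≫ s =
      (d ≫ closedPart K gC) ≫ (bcCone g (fpToBase H C) (fpToBase_w H C) (c := fpSpecCone H C) sη ht).π.app P := by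
    refine pullback.hom_ext ?_ ?_
    · rw [Category.assoc, pullback.lift_fst, Category.comp_id, Category.assoc, Category.assoc, bcCone_fst]
      simp [d, closedPart]
    · rw [Category.assoc, pullback.lift_snd, Category.assoc, Category.assoc, bcCone_snd]
      simp only [d, closedPart, pullback.lift_fst_assoc, pullback.lift_snd_assoc, Category.assoc]
      rw [pullback.condition_assoc]
      refine congrArg (pullback.snd _ _ ≫ ·) ?_
      show _ = Spec.map (CommRingCat.ofHom ev) ≫ Spec.map (CommRingCat.ofHom P.unop.toB.toRingHom)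
      rw [← Spec.map_comp, ← Spec.map_comp, ← CommRingCat.ofHom_comp, ← CommRingCat.ofHom_comp, hσ]
  exact ⟨(FEt.restrict s).obj EP, ⟨Spread.restrictSquare (closedPart J g) s (d ≫ closedPart K gC) _ hsd EP ≪≫
    (FEt.restrict (d ≫ closedPart K gC)).mapIso eP ≪≫ Spread.restrictComp d (closedPart K gC) _ rfl EC ≪≫
    (FEt.restrict d).mapIso eC ≪≫ (Spread.restrictComp d c (𝟙 _) hdc E₀).symm ≪≫ Spread.restrictId E₀⟩⟩

end Groth.Agent.PBC37
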