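import Groth.Agent.PBC37.Main
import Groth.Agent.S0252
import Groth.Agent.S0268
import Groth.Agent.S0269
import Groth.Agent.S5117
import Groth.Agent.Pi1Ext.Spread

/-!
# Reduction to the closed fibre over complete local rings
-/

set_option autoImplicit false
set_option linter.style.haveILetI false
set_option linter.unusedSectionVars false

universe u

open CategoryTheory CategoryTheory.Limits AlgebraicGeometry TopologicalSpace
open Groth.Agent.Pi1Ext

noncomputable section

namespace Groth.Agent.PBC37

set_option backward.isDefEq.respectTransparency false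

variable (A : Type u) [CommRing A] [IsNoetherianRing A] [IsLocalRing A]
  [IsAdicComplete (IsLocalRing.maximalIdeal A) A] {X : Scheme.{u}} (f : X ⟶ Spec (CommRingCat.of A)) [IsProper f]


/-- The residue field as a point of the base. -/
abbrev resPt : Spec (CommRingCat.of (IsLocalRing.ResidueField A)) ⟶ Spec (CommRingCat.of A) :=
  Spec.map (CommRingCat.ofHom (IsLocalRing.residue A))

/-- The algebraically closed point of the residue field. -/
abbrev barPt : Spec (CommRingCat.of (AlgebraicClosure (IsLocalRing.ResidueField A))) ⟶ Spec (CommRingCat.of (IsLocalRing.ResidueField A)) :=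
  Spec.map (CommRingCat.ofHom (algebraMap (IsLocalRing.ResidueField A) (AlgebraicClosure (IsLocalRing.ResidueField A))))

theorem isEquivalence_closedFibre : (FEt.restrict (pullback.fst f (resPt A))).IsEquivalence := by
  haveI := IsAdicComplete.henselianRing A (IsLocalRing.maximalIdeal A)
  exact restrict_isEquivalence A (IsLocalRing.maximalIdeal A) f

theorem isEquivalence_resPt : (FEt.restrict (resPt A)).IsEquivalence := by
  haveI : IsProper (𝟙 (Spec (CommRingCat.of A))) := inferInstance
  haveI := isEquivalence_closedFibre A (𝟙 (Spec (CommRingCat.of A)))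
  let e : Spec (CommRingCat.of (IsLocalRing.ResidueField A)) ⟶ pullback (𝟙 (Spec (CommRingCat.of A))) (resPt A) :=
    pullback.lift (resPt A) (𝟙 _) (by simp)
  haveI : IsIso e := ⟨pullback.snd _ _, pullback.lift_snd _ _ _, by
    refine pullback.hom_ext ?_ ?_
    · rw [Category.assoc, pullback.lift_fst, Category.id_comp, ← pullback.condition, Category.comp_id]
    · rw [Category.assoc, pullback.lift_snd, Category.id_comp, Category.comp_id]⟩
  haveI : (FEt.restrict e).IsEquivalence := S0238.result e
  exact Functor.isEquivalence_of_iso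
    (F := FEt.restrict (pullback.fst (𝟙 (Spec (CommRingCat.of A))) (resPt A)) ⋙ FEt.restrict e)
    (NatIso.ofComponents (fun E => (Spread.restrictComp e _ (resPt A) (pullback.lift_fst _ _ _).symm E).symm)
      fun φ => ((MorphismProperty.Over.pullbackComp e _ (resPt A) (pullback.lift_fst _ _ _).symm).inv.naturality φ))

variable (ξ : Spec (CommRingCat.of (AlgebraicClosure (IsLocalRing.ResidueField A))) ⟶ Spec (CommRingCat.of A))
  (hξ : ξ = Spec.map (CommRingCat.ofHom ((algebraMap (IsLocalRing.ResidueField A) (AlgebraicClosure (IsLocalRing.ResidueField A))).comp (IsLocalRing.residue A))))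

include hξ in
theorem ξ_eq : ξ = barPt A ≫ resPt A := by
  rw [hξ, ← Spec.map_comp, ← CommRingCat.ofHom_comp]

/-- The geometric closed fibre as the geometric fibre of the closed fibre. -/
def fibreIso (h : ξ = barPt A ≫ resPt A) : pullback (pullback.snd f (resPt A)) (barPt A) ≅ pullback f ξ :=
  pullbackLeftPullbackSndIso f (resPt A) (barPt A) ≪≫ pullback.congrHom rfl h.symm

theorem fibreIso_hom_fst (h : ξ = barPt A ≫ resPt A) :
    (fibreIso A f ξ h).hom ≫ pullback.fst f ξ =
      pullback.fst (pullback.snd f (resPt A)) (barPt A) ≫ pullback.fst f (resPt A) := by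
  simp [fibreIso]

include hξ in
theorem connectedSpace_fibre [ConnectedSpace ↥(pullback f ξ)] :
    ConnectedSpace ↥(pullback (pullback.snd f (resPt A)) (barPt A)) :=
  (fibreIso A f ξ (ξ_eq A ξ hξ)).inv.homeomorph.surjective.connectedSpace
    (fibreIso A f ξ (ξ_eq A ξ hξ)).inv.homeomorph.continuous

theorem compactSpace_closedFibre : CompactSpace ↥(pullback f (resPt A)) ∧
    QuasiSeparatedSpace ↥(pullback f (resPt A)) :=
  ⟨QuasiCompact.compactSpace_of_compactSpace (pullback.snd f (resPt A)),
    quasiSeparatedSpace_of_quasiSeparated (pullback.snd f (resPt A))⟩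

include hξ in
theorem fullyFaithful_restrict [ConnectedSpace ↥(pullback f ξ)] :
    (FEt.restrict f).Full ∧ (FEt.restrict f).Faithful := by
  haveI := connectedSpace_fibre A f ξ hξ
  haveI := (compactSpace_closedFibre A f).1
  haveI := (compactSpace_closedFibre A f).2
  haveI := (S0268.result (IsLocalRing.ResidueField A) (pullback.snd f (resPt A))).1
  haveI := (S0268.result (IsLocalRing.ResidueField A) (pullback.snd f (resPt A))).2
  haveI := isEquivalence_resPt A
  haveI := isEquivalence_closedFibre A f
  let i : FEt.restrict f ⋙ FEt.restrict (pullback.fst f (resPt A)) ≅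
      FEt.restrict (resPt A) ⋙ FEt.restrict (pullback.snd f (resPt A)) :=
    (MorphismProperty.Over.pullbackComp _ _ (pullback.fst f (resPt A) ≫ f) rfl).symm ≪≫
      MorphismProperty.Over.pullbackComp _ _ (pullback.fst f (resPt A) ≫ f) pullback.condition
  haveI : (FEt.restrict f ⋙ FEt.restrict (pullback.fst f (resPt A))).Full := Functor.Full.of_iso i.symm
  haveI : (FEt.restrict f ⋙ FEt.restrict (pullback.fst f (resPt A))).Faithful := Functor.Faithful.of_iso i.symm
  exact ⟨Functor.Full.of_comp_faithful _ (FEt.restrict (pullback.fst f (resPt A))),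
    Functor.Faithful.of_comp _ (FEt.restrict (pullback.fst f (resPt A)))⟩

include hξ in
/-- Covers of the geometric closed fibre embed into restrictions of covers of the total space. -/
theorem exists_openClosed [ConnectedSpace ↥(pullback f ξ)] (V : FEt.Cat (pullback f ξ)) :
    ∃ (U : FEt.Cat X) (ι : V ⟶ (FEt.restrict (pullback.fst f ξ)).obj U),
      IsOpenImmersion ι.left ∧ IsClosedImmersion ι.left := by
  have h := ξ_eq A ξ hξ
  haveI := connectedSpace_fibre A f ξ hξ
  haveI := (compactSpace_closedFibre A f).1
  haveI := (compactSpace_closedFibre A f).2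
  haveI := isEquivalence_closedFibre A f
  let j := fibreIso A f ξ h
  haveI : (FEt.restrict j.hom).IsEquivalence := S0238.result j.hom
  let q := pullback.fst (pullback.snd f (resPt A)) (barPt A)
  obtain ⟨U₀, ι, hι₁, hι₂⟩ := S0269.result (IsLocalRing.ResidueField A) (pullback.snd f (resPt A))
    ((FEt.restrict j.hom).obj V)
  let U := (FEt.restrict (pullback.fst f (resPt A))).objPreimage U₀
  let w : (FEt.restrict q).obj U₀ ≅ (FEt.restrict j.hom).obj ((FEt.restrict (pullback.fst f ξ)).obj U) :=
    (FEt.restrict q).mapIso ((FEt.restrict (pullback.fst f (resPt A))).objObjPreimageIso U₀).symm ≪≫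
      Spread.restrictSquare q (pullback.fst f (resPt A)) j.hom (pullback.fst f ξ) (fibreIso_hom_fst A f ξ h).symm U
  let ι' := ι ≫ w.hom
  refine ⟨U, (FEt.restrict j.hom).preimage ι', ?_⟩
  have hsq : ∀ {P Q : FEt.Cat (pullback f ξ)} (φ : P ⟶ Q),
      ((FEt.restrict j.hom).map φ).left ≫ pullback.fst Q.hom j.hom = pullback.fst P.hom j.hom ≫ φ.left := fun φ =>
    pullback.lift_fst _ _ _
  have e : ((FEt.restrict j.hom).preimage ι').left = inv (pullback.fst V.hom j.hom) ≫ ι.left ≫
      (Spread.leftIso w).hom ≫ pullback.fst ((FEt.restrict (pullback.fst f ξ)).obj U).hom j.hom := by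
    rw [IsIso.eq_inv_comp, ← hsq, Functor.map_preimage]
    exact Category.assoc _ _ _
  rw [e]
  exact ⟨inferInstance, inferInstance⟩

include hξ in
/-- A connected cover with a section over the geometric closed fibre comes from the base. -/
theorem exists_from_base [ConnectedSpace ↥(pullback f ξ)] (X' : FEt.Cat X) [ConnectedSpace X'.left]
    (σ : pullback f ξ ⟶ X'.left) (hσ : σ ≫ X'.hom = pullback.fst f ξ) :
    ∃ T : FEt.Cat (Spec (CommRingCat.of A)), Nonempty ((FEt.restrict f).obj T ≅ X') := by
  have h := ξ_eq A ξ hξ
  haveI := connectedSpace_fibre A f ξ hξ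
  haveI := (compactSpace_closedFibre A f).1
  haveI := (compactSpace_closedFibre A f).2
  haveI := isEquivalence_closedFibre A f
  haveI := isEquivalence_resPt A
  haveI : IsFinite X'.hom := X'.prop.1
  let g : X'.left ⟶ Spec (CommRingCat.of A) := X'.hom ≫ f
  haveI : IsProper g := inferInstance
  haveI : ConnectedSpace ↥(pullback X'.hom (pullback.fst f (resPt A))) := by
    haveI : CompactSpace X'.left := QuasiCompact.compactSpace_of_compactSpace g
    haveI : QuasiSeparatedSpace X'.left := quasiSeparatedSpace_of_quasiSeparated g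
    haveI := (compactSpace_closedFibre A g).1
    haveI := (compactSpace_closedFibre A g).2
    haveI hh := S0252.result (pullback.fst g (resPt A)) (isEquivalence_closedFibre A g)
    have hsub : Subsingleton (_root_.ConnectedComponents ↥(pullback g (resPt A))) :=
      hh.homeomorph.injective.subsingleton
    haveI hne : Nonempty ↥(pullback g (resPt A)) := _root_.ConnectedComponents.nonempty_iff_nonempty.1
      ⟨hh.homeomorph.symm (_root_.ConnectedComponents.mk (Classical.arbitrary _))⟩
    haveI : ConnectedSpace ↥(pullback g (resPt A)) := connectedSpace_iff_connectedComponent.2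
      ⟨Classical.arbitrary _, Set.eq_univ_of_forall fun y =>
        _root_.ConnectedComponents.coe_eq_coe'.1 (hsub.elim _ _)⟩
    exact (pullbackRightPullbackFstIso f (resPt A) X'.hom).inv.homeomorph.surjective.connectedSpace
      (pullbackRightPullbackFstIso f (resPt A) X'.hom).inv.homeomorph.continuous
  let j := fibreIso A f ξ h
  let σ' : pullback (pullback.snd f (resPt A)) (barPt A) ⟶ pullback X'.hom (pullback.fst f (resPt A)) :=
    pullback.lift (j.hom ≫ σ) (pullback.fst _ _) (by rw [Category.assoc, hσ, fibreIso_hom_fst])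
  haveI : ConnectedSpace ↥((FEt.restrict (pullback.fst f (resPt A))).obj X').left :=
    inferInstanceAs (ConnectedSpace ↥(pullback X'.hom (pullback.fst f (resPt A))))
  obtain ⟨S', ⟨e⟩⟩ := S5117.result (IsLocalRing.ResidueField A) (pullback.snd f (resPt A))
    ((FEt.restrict (pullback.fst f (resPt A))).obj X') σ' (pullback.lift_snd _ _ _)
  let T := (FEt.restrict (resPt A)).objPreimage S'
  refine ⟨T, ⟨(FEt.restrict (pullback.fst f (resPt A))).preimageIso (?_ ≪≫ e)⟩⟩
  exact Spread.restrictSquare _ _ _ _ pullback.condition T ≪≫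
    (FEt.restrict (pullback.snd f (resPt A))).mapIso ((FEt.restrict (resPt A)).objObjPreimageIso S')

end Groth.Agent.PBC37
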