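import Groth.Agent.PBC37.Algebra
import Groth.Agent.PBC37.Approx

/-!
# Lifting finite étale covers over complete rings
-/

set_option autoImplicit false
set_option linter.style.haveILetI false
set_option linter.unusedSectionVars false

universe u

open CategoryTheory CategoryTheory.Limits AlgebraicGeometry TopologicalSpace Opposite
open Groth.Agent.Pi1Ext

noncomputable section

namespace Groth.Agent.PBC37

set_option backward.isDefEq.respectTransparency false
set_option backward.isDefEq.respectTransparency.types false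

variable {C : Type u} [CommRing C] {K : Ideal C} {Y : Scheme.{u}} [Y.Over (Spec (CommRingCat.of C))]
  [IsNoetherianRing C] [IsAdicComplete K C] [IsProper (Y ↘ Spec (CommRingCat.of C))]

theorem exists_lift_tower {T : Tower K Y} [IsLocallyNoetherian Y] (m : Model T) (h : T.E 0 ⟶ nbhdS K Y 0)
    (hh : h ≫ nbhdι K Y 0 = T.p 0) :
    ∃ φ : T.E 0 ⟶ pullback m.alg.π (nbhdι K Y 0), IsIso φ ∧ φ ≫ pullback.snd _ _ = h := by
  let π := m.alg.π
  let Q : m.alg.presheaf ⟶ AffAlg.alg (T.p 0) :=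
    { app := fun U => CommRingCat.ofHom (m.qRing 0 U.unop)
      naturality := fun U V i => CommRingCat.hom_ext (RingHom.ext fun a =>
        m.qs_res 0 i.unop.le (show Γ(m.M, U.unop) from a)) }
  let ω : AffAlg.algHoms π (T.p 0) := ⟨m.alg.gammaMap ≫ Q, by
    rw [← Category.assoc, m.alg.π_c_gammaMap]
    exact NatTrans.ext (funext fun U => CommRingCat.hom_ext (RingHom.ext fun r => m.qRing_strHom 0 U.unop r))⟩
  let φ₀ := RelSpecX.ofAlgHom π (T.p 0) ω
  have hφ₀ : φ₀ ≫ π = T.p 0 := RelSpecX.ofAlgHom_comp π (T.p 0) ω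
  let φ : T.E 0 ⟶ pullback π (nbhdι K Y 0) := pullback.lift φ₀ h (hφ₀.trans hh.symm)
  refine ⟨φ, ?_, pullback.lift_snd _ _ _⟩
  let fZ : pullback π (nbhdι K Y 0) ⟶ Y := pullback.fst _ _ ≫ π
  have hw : φ ≫ fZ = T.p 0 := by rw [pullback.lift_fst_assoc, hφ₀]
  haveI : IsClosedImmersion (pullback.fst π (nbhdι K Y 0)) :=
    MorphismProperty.pullback_fst (P := @IsClosedImmersion) _ _ inferInstance
  rw [RelSpecX.isIso_iff fZ (T.p 0) φ hw]
  let b := AffAlg.algHom fZ (T.p 0) φ hw
  suffices hb : ∀ U : Y.Opens, IsAffineOpen U → IsIso (b.app (op U)) by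
    let α : (⟨AffAlg.alg fZ, TopCat.Sheaf.pushforward_sheaf_of_sheaf _ (pullback π (nbhdι K Y 0)).sheaf.property⟩ :
          Sheaf (Opens.grothendieckTopology Y) CommRingCat.{u}) ⟶
        ⟨AffAlg.alg (T.p 0), TopCat.Sheaf.pushforward_sheaf_of_sheaf _ (T.E 0).sheaf.property⟩ := ⟨b⟩
    haveI : IsIso α := by
      apply Functor.IsCoverDense.iso_of_restrict_iso (G := Scheme.AffineZariskiSite.toOpensFunctor Y)
      haveI : ∀ V, IsIso (((Scheme.AffineZariskiSite.toOpensFunctor Y).op.whiskerLeft b).app V) := fun V =>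
        hb V.unop.1 V.unop.2
      exact NatIso.isIso_of_isIso_app ((Scheme.AffineZariskiSite.toOpensFunctor Y).op.whiskerLeft b)
    exact inferInstanceAs (IsIso ((sheafToPresheaf _ _).map α))
  intro U hU
  rw [ConcreteCategory.isIso_iff_bijective]
  let a := (AffAlg.algHom π fZ (pullback.fst π (nbhdι K Y 0)) rfl).app (op U)
  have hab : a ≫ b.app (op U) = m.alg.gammaAff U hU ≫ CommRingCat.ofHom (m.qRing 0 U) := by
    have e0 : φ ≫ pullback.fst π (nbhdι K Y 0) = φ₀ := pullback.lift_fst _ _ _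
    have e := RelSpecX.algHom_comp π fZ (T.p 0) (pullback.fst π (nbhdι K Y 0)) rfl φ hw
    have e1 : AffAlg.algHom π (T.p 0) φ₀ hφ₀ = m.alg.gammaMap ≫ Q := RelSpecX.algHom_ofAlgHom π (T.p 0) ω
    rw [← m.alg.gammaMap_app U hU]
    show (AffAlg.algHom π fZ (pullback.fst π (nbhdι K Y 0)) rfl ≫ b).app (op U) = (m.alg.gammaMap ≫ Q).app (op U)
    rw [← e, ← e1]
    simp only [e0]
  have ha : Function.Surjective a := by
    have h1 := (pullback.fst π (nbhdι K Y 0)).app_surjective (π ⁻¹ᵁ U) (hU.preimage π)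
    rw [Scheme.Hom.app_eq_appLE] at h1
    show Function.Surjective ((AffAlg.algHom π fZ (pullback.fst π (nbhdι K Y 0)) rfl).app (op U)).hom
    rw [RelSpecX.algHom_app]
    exact h1
  haveI := RelSpecX.isIso_gammaAff m.alg U hU
  have hγ := ConcreteCategory.bijective_of_isIso (m.alg.gammaAff U hU)
  refine ⟨?_, fun y => ?_⟩
  · rw [injective_iff_map_eq_zero]
    intro z hz
    obtain ⟨w, rfl⟩ := ha z
    have h0 : m.qRing 0 U (m.alg.gammaAff U hU w) = 0 := (congr($hab w)).symm.trans hz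
    rw [← RingHom.mem_ker, m.ker_qRing 0 hU] at h0
    suffices hle : ((K ^ (0 + 1)).map (scalU Y U)).map (m.strHom U) ≤
        (RingHom.ker a.hom).map (m.alg.gammaAff U hU).hom by
      obtain ⟨w', hw', hww⟩ := (Ideal.mem_map_iff_of_surjective _ hγ.2).1 (hle h0)
      rw [← hγ.1 hww]
      exact hw'
    rw [Ideal.map_le_iff_le_comap, Ideal.map_le_iff_le_comap]
    intro c hc
    refine (Ideal.mem_map_iff_of_surjective _ hγ.2).2 ⟨π.app U (scalU Y U c), ?_, ?_⟩
    · rw [RingHom.mem_ker]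
      refine Eq.trans (congr($(NatTrans.congr_app
        (AffAlg.algHom_comm π fZ (pullback.fst π (nbhdι K Y 0)) rfl) (op U)) (scalU Y U c))) ?_
      show fZ.app U (scalU Y U c) = 0
      rw [app_scalU fZ (pullback.snd π (nbhdι K Y 0) ≫ pullback.snd _ _)
        (CommRingCat.ofHom (Ideal.Quotient.mk (K ^ (0 + 1))))
        (show (pullback.fst π (nbhdι K Y 0) ≫ π) ≫ (Y ↘ Spec (CommRingCat.of C)) = _ by
          rw [pullback.condition, Category.assoc, Category.assoc, pullback.condition])]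
      show Scheme.Hom.appLE _ _ _ _
        ((Scheme.ΓSpecIso (CommRingCat.of (C ⧸ K ^ (0 + 1)))).inv (Ideal.Quotient.mk (K ^ (0 + 1)) c)) = 0
      rw [Ideal.Quotient.eq_zero_iff_mem.2 hc, map_zero, map_zero]
    · exact congr($(m.alg.π_app_gammaAff U hU) (scalU Y U c))
  · obtain ⟨s, hs⟩ := m.qRing_surjective 0 hU y
    obtain ⟨w, rfl⟩ := hγ.2 s
    exact ⟨a w, (congr($hab w)).trans hs⟩

theorem essSurjAt_restrict_nbhd (E₀ : FEt.Cat (nbhdS K Y 0)) :
    ∃ E : FEt.Cat Y, Nonempty ((FEt.restrict (nbhdι K Y 0)).obj E ≅ E₀) := by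
  haveI : IsLocallyNoetherian Y := LocallyOfFiniteType.isLocallyNoetherian (Y ↘ Spec (CommRingCat.of C))
  obtain ⟨m⟩ := nonempty_model (tower E₀)
  obtain ⟨φ, hφ, hφs⟩ := exists_lift_tower m E₀.hom rfl
  let E : FEt.Cat Y := MorphismProperty.Over.mk ⊤ m.alg.π ⟨inferInstance, inferInstance⟩
  refine ⟨E, ⟨(MorphismProperty.Over.isoMk (asIso φ) ?_).symm⟩⟩
  exact hφs

omit [Y.Over (Spec (CommRingCat.of C))] [IsNoetherianRing C] [IsAdicComplete K C]
  [IsProper (Y ↘ Spec (CommRingCat.of C))] in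
theorem completeCase : CompleteCase.{u} := by
  intro C _ K hC hK Y g _
  letI : Y.Over (Spec (CommRingCat.of C)) := ⟨g⟩
  haveI : IsProper (Y ↘ Spec (CommRingCat.of C)) := ‹IsProper g›
  have key : ∀ (L : Ideal C), L = K ^ (0 + 1) → (FEt.restrict (closedPart L g)).EssSurj := by
    rintro _ rfl
    exact ⟨fun E₀ => essSurjAt_restrict_nbhd (K := K) E₀⟩
  exact key K (pow_one K).symm

end Groth.Agent.PBC37
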