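import Groth.Agent.PBC37.Main
import Groth.Agent.PBC37.BaseChangeLimit
import Groth.Agent.PurX.AdjoinLimit
import Groth.Agent.Pi1Ext.Spread
import Groth.Agent.Pi1X.FEtFull
import Groth.Agent.S0254
import Groth.Agent.S0289
import Groth.Agent.S9623
import Groth.Agent.S12073
import Groth.Agent.GrpSchLib.GeomIrr
import Mathlib.AlgebraicGeometry.Geometrically.Connected

/-!
# Invariance of finite étale covers of proper schemes under extensions of separably closed fields
-/

set_option autoImplicit false
set_option linter.style.haveILetI false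
set_option linter.unusedSectionVars false

universe u

open CategoryTheory CategoryTheory.Limits AlgebraicGeometry TopologicalSpace
open Groth.Agent.Pi1Ext
open scoped TensorProduct

noncomputable section

namespace Groth.Agent.PBC37

set_option backward.isDefEq.respectTransparency false

theorem isSepClosed_of_ringEquiv {F E : Type u} [Field F] [Field E] [IsSepClosed E] (e : F ≃+* E) :
    IsSepClosed F := by
  refine IsSepClosed.of_exists_root F fun p _ hi hsep => ?_
  obtain ⟨y, hy⟩ := IsSepClosed.exists_eval₂_eq_zero (e : F →+* E) p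
    hi.degree_pos.ne' hsep
  refine ⟨e.symm y, e.injective ?_⟩
  rw [map_zero, ← hy]
  show (e : F →+* E) (p.eval (e.symm y)) = _
  rw [← Polynomial.eval₂_at_apply]
  exact congrArg (fun t => Polynomial.eval₂ (e : F →+* E) t p) (e.apply_symm_apply y)

variable (k K : Type u) [Field k] [Field K] [Algebra k K]

/-- The base change morphism. -/
abbrev extPt : Spec (CommRingCat.of K) ⟶ Spec (CommRingCat.of k) := Spec.map (CommRingCat.ofHom (algebraMap k K))

theorem geometricallyConnected_extPt [IsSepClosed k] : GeometricallyConnected (extPt k K) := by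
  refine ⟨fun L _ y Z fst snd h => ?_⟩
  obtain ⟨φ, rfl⟩ := Spec.map_surjective y
  letI : Algebra k L := φ.hom.toAlgebra
  haveI : ConnectedSpace (PrimeSpectrum K) := inferInstance
  haveI : ConnectedSpace (PrimeSpectrum L) := inferInstance
  haveI := S9623.result (k := k) (R := K) (S := L)
  let e : Z ≅ Spec (CommRingCat.of (K ⊗[k] L)) := h.isoPullback ≪≫ pullbackSpecIso k K L
  haveI : ConnectedSpace ↥(Spec (CommRingCat.of (K ⊗[k] L))) :=
    inferInstanceAs (ConnectedSpace (PrimeSpectrum (K ⊗[k] L)))
  exact e.inv.homeomorph.surjective.connectedSpace e.inv.homeomorph.continuous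

variable {X : Scheme.{u}} (f : X ⟶ Spec (CommRingCat.of k))

theorem restrict_ext_fullyFaithful [IsSepClosed k] :
    (FEt.restrict (pullback.fst f (extPt k K))).Full ∧ (FEt.restrict (pullback.fst f (extPt k K))).Faithful := by
  let q := pullback.fst f (extPt k K)
  haveI := geometricallyConnected_extPt k K
  haveI : Surjective (extPt k K) := GrpSchLib.surjective_spec_map_field _
  haveI : GeometricallyConnected q := inferInstance
  haveI : UniversallyOpen q := MorphismProperty.pullback_fst f (extPt k K) inferInstance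
  haveI : Surjective q := MorphismProperty.pullback_fst (P := @Surjective) f (extPt k K) inferInstance
  have hC : ∀ C : Set ↥X, IsClopen C → C.Nonempty → (C ∩ Set.range q.base).Nonempty :=
    fun C _ hne => by rwa [q.surjective.range_eq, Set.inter_univ]
  refine ⟨Pi1X.restrict_full q hC fun W C hWC => ?_, Pi1X.restrict_faithful q hC⟩
  let g : W.left ⟶ X := W.hom
  let j := pullback.fst g q
  haveI : GeometricallyConnected j := inferInstance
  haveI : UniversallyOpen j := MorphismProperty.pullback_fst g q inferInstance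
  haveI : Surjective j := MorphismProperty.pullback_fst (P := @Surjective) g q inferInstance
  have hsat : ∀ p p', j p = j p' → p ∈ C → p' ∈ C := fun p p' he hp =>
    (j.isConnected_preimage_singleton (j p)).isPreconnected.subset_isClopen hWC ⟨p, rfl, hp⟩ he.symm
  have hco : (j '' C)ᶜ = j '' Cᶜ := by
    ext w
    obtain ⟨p, rfl⟩ := j.surjective w
    constructor
    · exact fun h => ⟨p, fun hp => h ⟨p, hp, rfl⟩, rfl⟩
    · rintro ⟨p', hp', he⟩ ⟨q', hq, he'⟩
      exact hp' (hsat q' p' (he'.trans he.symm) hq)
  refine ⟨j '' C, ⟨?_, j.isOpenMap _ hWC.2⟩, ?_⟩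
  · rw [← isOpen_compl_iff, hco]
    exact j.isOpenMap _ hWC.compl.2
  · ext p
    exact ⟨fun ⟨q', hq, he⟩ => hsat q' p he hq, fun hp => ⟨p, hp, rfl⟩⟩

theorem restrict_insep_isEquivalence [IsPurelyInseparable k K] :
    (FEt.restrict (pullback.fst f (extPt k K))).IsEquivalence := by
  haveI : IsIntegralHom (extPt k K) :=
    IsIntegralHom.SpecMap_iff.mpr (algebraMap_isIntegral_iff.2 (IsPurelyInseparable.isIntegral (F := k) (E := K)))
  haveI : UniversallyInjective (extPt k K) := by
    refine ((tfae_universallyInjective _).out 0 1).2 fun L hL g₁ g₂ hg => ?_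
    obtain ⟨a, rfl⟩ := Spec.map_surjective g₁
    obtain ⟨b, rfl⟩ := Spec.map_surjective g₂
    have hg' : CommRingCat.ofHom (algebraMap k K) ≫ a = CommRingCat.ofHom (algebraMap k K) ≫ b :=
      Spec.map_injective (by rw [Spec.map_comp, Spec.map_comp]; exact hg)
    congr 1
    ext1
    letI := hL
    exact IsPurelyInseparable.injective_comp_algebraMap k K L congr($(hg').hom)
  haveI : Surjective (extPt k K) := GrpSchLib.surjective_spec_map_field _
  haveI : IsIntegralHom (pullback.fst f (extPt k K)) := MorphismProperty.pullback_fst _ _ inferInstance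
  haveI : UniversallyInjective (pullback.fst f (extPt k K)) :=
    MorphismProperty.pullback_fst (P := @UniversallyInjective) _ _ ‹_›
  haveI : Surjective (pullback.fst f (extPt k K)) :=
    MorphismProperty.pullback_fst (P := @Surjective) _ _ ‹_›
  exact S0289.result _

theorem restrict_ext_essSurj [IsSepClosed k] [IsSepClosed K] [IsProper f] :
    (FEt.restrict (pullback.fst f (extPt k K))).EssSurj := by
  refine ⟨fun V₀ => ?_⟩
  open PurX.AdjLim in
  let h : ∀ s, (specs k K).obj s ⟶ Spec (CommRingCat.of k) := fun s =>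
    Spec.map (CommRingCat.ofHom (algebraMap k (sub k K s.unop)))
  have hn : ∀ {s t} (a : s ⟶ t), (PurX.AdjLim.specs k K).map a ≫ h t = h s := fun {s t} a => by
    show Spec.map _ ≫ Spec.map _ = Spec.map _
    rw [← Spec.map_comp]
    rfl
  have ht : ∀ s, (PurX.AdjLim.specCone k K).π.app s ≫ h s = extPt k K := fun s => by
    show Spec.map _ ≫ Spec.map _ = Spec.map _
    rw [← Spec.map_comp]
    rfl
  let D := bcDiagram f h hn
  haveI : CompactSpace X := QuasiCompact.compactSpace_of_compactSpace f
  haveI : QuasiSeparatedSpace X := quasiSeparatedSpace_of_quasiSeparated f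
  haveI haffh : ∀ s, IsAffineHom (h s) := fun s => inferInstanceAs (IsAffineHom (Spec.map _))
  haveI : ∀ s, IsAffineHom (pullback.fst f (h s)) := fun s =>
    MorphismProperty.pullback_fst (P := @IsAffineHom) _ _ (haffh s)
  haveI : ∀ s, CompactSpace (D.obj s) := fun s => QuasiCompact.compactSpace_of_compactSpace (pullback.fst f (h s))
  haveI : ∀ s, QuasiSeparatedSpace (D.obj s) := fun s =>
    quasiSeparatedSpace_of_quasiSeparated (pullback.fst f (h s))
  haveI : ∀ (s t : (Finset K)ᵒᵖ) (a : s ⟶ t), IsAffineHom (D.map a) := fun s t a => by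
    haveI : IsAffineHom (D.map a ≫ pullback.fst f (h t)) := by
      rw [show D.map a ≫ pullback.fst f (h t) = pullback.fst _ _ from pullback.lift_fst _ _ _]
      infer_instance
    exact IsAffineHom.of_comp (D.map a) (pullback.fst f (h t))
  obtain ⟨s, Es, ⟨es⟩⟩ := (S12073.result D (bcCone f h hn (c := PurX.AdjLim.specCone k K) (extPt k K) ht)
    (isLimitBcCone f h hn (PurX.AdjLim.isLimitSpec k K) (extPt k K) ht)).1 V₀
  let R := PurX.AdjLim.sub k K s.unop
  haveI : Algebra.FiniteType k R := (Subalgebra.fg_iff_finiteType _).1 ⟨s.unop, rfl⟩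
  -- a closed point of the stage
  obtain ⟨𝔪, h𝔪⟩ := Ideal.exists_maximal R
  haveI := h𝔪
  letI : Field (R ⧸ 𝔪) := Ideal.Quotient.field 𝔪
  haveI : Module.Finite k (R ⧸ 𝔪) := finite_of_finite_type_of_isJacobsonRing k (R ⧸ 𝔪)
  haveI : Algebra.IsAlgebraic k (R ⧸ 𝔪) := Algebra.IsAlgebraic.of_finite k _
  haveI : IsPurelyInseparable k (R ⧸ 𝔪) := inferInstance
  haveI := restrict_insep_isEquivalence k (R ⧸ 𝔪) f
  let rX : pullback f (extPt k (R ⧸ 𝔪)) ⟶ D.obj s :=
    pullback.lift (pullback.fst _ _) (pullback.snd _ _ ≫ Spec.map (CommRingCat.ofHom (Ideal.Quotient.mk 𝔪))) (by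
      rw [pullback.condition, Category.assoc]
      refine congrArg (pullback.snd _ _ ≫ ·) ?_
      show _ = Spec.map _ ≫ Spec.map _
      rw [← Spec.map_comp]
      rfl)
  let E' := (FEt.restrict (pullback.fst f (extPt k (R ⧸ 𝔪)))).objPreimage ((FEt.restrict rX).obj Es)
  let eE' := (FEt.restrict (pullback.fst f (extPt k (R ⧸ 𝔪)))).objObjPreimageIso ((FEt.restrict rX).obj Es)
  -- a valuation ring dominating it
  obtain ⟨V, hRV, hmV⟩ := Ideal.image_subset_nonunits_valuationSubring (A := R.toSubring) 𝔪 h𝔪.ne_top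
  let ι : R →+* V := Subring.inclusion hRV
  haveI : IsSepClosed (FractionRing V) :=
    isSepClosed_of_ringEquiv (FractionRing.algEquiv V K).toRingEquiv
  haveI : HenselianLocalRing V := (S0254.result V).1
  let sV : Spec (CommRingCat.of V) ⟶ Spec (CommRingCat.of k) := Spec.map (CommRingCat.ofHom ι) ≫ h s
  let gV := pullback.snd f sV
  haveI : IsProper gV := MorphismProperty.pullback_snd (P := @IsProper) _ _ inferInstance
  haveI := restrict_isEquivalence V (IsLocalRing.maximalIdeal V) gV
  let cl := closedPart (IsLocalRing.maximalIdeal V) gV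
  let a : pullback f sV ⟶ D.obj s :=
    pullback.lift (pullback.fst _ _) (pullback.snd _ _ ≫ Spec.map (CommRingCat.ofHom ι)) (by
      rw [pullback.condition, Category.assoc])
  have hι : 𝔪 ≤ RingHom.ker ((Ideal.Quotient.mk (IsLocalRing.maximalIdeal V)).comp ι) := fun x hx => by
    show Ideal.Quotient.mk (IsLocalRing.maximalIdeal V) (ι x) = 0
    rw [Ideal.Quotient.eq_zero_iff_mem, ← ValuationSubring.coe_mem_nonunits_iff]
    exact hmV ⟨x, hx, rfl⟩
  let ρ : R ⧸ 𝔪 →+* V ⧸ IsLocalRing.maximalIdeal V := Ideal.Quotient.lift 𝔪 _ hι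
  let d : pullback gV (Spec.map (CommRingCat.ofHom (Ideal.Quotient.mk (IsLocalRing.maximalIdeal V)))) ⟶
      pullback f (extPt k (R ⧸ 𝔪)) :=
    pullback.lift (cl ≫ pullback.fst _ _) (pullback.snd _ _ ≫ Spec.map (CommRingCat.ofHom ρ)) (by
      rw [Category.assoc, pullback.condition]
      show cl ≫ gV ≫ sV = _
      rw [← Category.assoc, pullback.condition, Category.assoc, Category.assoc]
      refine congrArg (pullback.snd _ _ ≫ ·) ?_
      show Spec.map _ ≫ Spec.map _ ≫ Spec.map _ = Spec.map _ ≫ Spec.map _
      rw [← Spec.map_comp, ← Spec.map_comp, ← Spec.map_comp]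
      rfl)
  have hd₁ : d ≫ pullback.fst _ _ = cl ≫ pullback.fst _ _ := pullback.lift_fst _ _ _
  have hd₂ : d ≫ rX = cl ≫ a := by
    refine pullback.hom_ext ?_ ?_
    · rw [Category.assoc, pullback.lift_fst, hd₁, Category.assoc, pullback.lift_fst]
    · simp only [d, rX, a, cl, closedPart, Category.assoc, pullback.lift_snd, pullback.lift_snd_assoc]
      show _ = pullback.fst _ _ ≫ gV ≫ _
      rw [pullback.condition_assoc, ← Spec.map_comp, ← Spec.map_comp]
      rfl
  let e := (FEt.restrict cl).preimageIso
    (Spread.restrictSquare cl (pullback.fst f sV) d (pullback.fst f (extPt k (R ⧸ 𝔪))) hd₁.symm E' ≪≫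
      (FEt.restrict d).mapIso eE' ≪≫ Spread.restrictSquare d rX cl a hd₂ Es)
  let b : pullback f (extPt k K) ⟶ pullback f sV :=
    pullback.lift (pullback.fst _ _) (pullback.snd _ _ ≫ Spec.map (CommRingCat.ofHom V.subtype)) (by
      rw [pullback.condition, Category.assoc]
      refine congrArg (pullback.snd _ _ ≫ ·) ?_
      show _ = Spec.map _ ≫ Spec.map _ ≫ Spec.map _
      rw [← Spec.map_comp, ← Spec.map_comp]
      rfl)
  have hb : (bcCone f h hn (c := PurX.AdjLim.specCone k K) (extPt k K) ht).π.app s = b ≫ a := by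
    refine pullback.hom_ext ?_ ?_
    · rw [bcCone_fst, Category.assoc, pullback.lift_fst, pullback.lift_fst]
    · rw [bcCone_snd, Category.assoc, pullback.lift_snd, pullback.lift_snd_assoc, Category.assoc]
      refine congrArg (pullback.snd _ _ ≫ ·) ?_
      show Spec.map _ = Spec.map _ ≫ Spec.map _
      rw [← Spec.map_comp]
      rfl
  exact ⟨E', ⟨Spread.restrictComp b (pullback.fst f sV) _ (pullback.lift_fst _ _ _).symm E' ≪≫
    (FEt.restrict b).mapIso e ≪≫ (Spread.restrictComp b a _ hb Es).symm ≪≫ es⟩⟩

/-- Finite étale covers of a proper scheme do not change under extensions of separably closed fields. -/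
theorem restrict_ext_isEquivalence [IsSepClosed k] [IsSepClosed K] [IsProper f] :
    (FEt.restrict (pullback.fst f (extPt k K))).IsEquivalence :=
  haveI := (restrict_ext_fullyFaithful k K f).1
  haveI := (restrict_ext_fullyFaithful k K f).2
  haveI := restrict_ext_essSurj k K f
  { }

end Groth.Agent.PBC37
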