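import Groth.Agent.PBC50.ConnFibre
import Groth.Agent.Pi1X.FEtFull

/-!
# Finite étale covers of proper schemes over henselian pairs: full faithfulness
-/

set_option autoImplicit false
set_option linter.style.haveILetI false

universe u

open CategoryTheory CategoryTheory.Limits AlgebraicGeometry TopologicalSpace

noncomputable section

namespace Groth.Agent.PBC37

set_option backward.isDefEq.respectTransparency false

/-- The projection of the closed part. -/
abbrev closedPart {A : Type u} [CommRing A] (I : Ideal A) {X : Scheme.{u}} (f : X ⟶ Spec (CommRingCat.of A)) :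
    pullback f (Spec.map (CommRingCat.ofHom (Ideal.Quotient.mk I))) ⟶ X :=
  pullback.fst f (Spec.map (CommRingCat.ofHom (Ideal.Quotient.mk I)))

instance isClosedImmersion_specMk {A : Type u} [CommRing A] (I : Ideal A) :
    IsClosedImmersion (Spec.map (CommRingCat.ofHom (Ideal.Quotient.mk I))) :=
  IsClosedImmersion.spec_of_surjective _ Ideal.Quotient.mk_surjective

theorem range_closedPart {A : Type u} [CommRing A] (I : Ideal A) {X : Scheme.{u}}
    (f : X ⟶ Spec (CommRingCat.of A)) :
    Set.range (closedPart I f).base = f.base ⁻¹' PrimeSpectrum.zeroLocus (I : Set A) := by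
  rw [← HensCouple7.range_specMap_mk]
  exact Scheme.Pullback.range_fst f _

variable (A : Type u) [CommRing A] (I : Ideal A) [HenselianRing A I] {X : Scheme.{u}}
  (f : X ⟶ Spec (CommRingCat.of A)) [IsProper f]

theorem exists_mem_clopen (C : Set X) (hC : IsClopen C) (hne : C.Nonempty) :
    (C ∩ Set.range (closedPart I f).base).Nonempty := by
  obtain ⟨z, hz, hzC⟩ := PBC50.nonempty_inter_preimage_zeroLocus I f hC.1 hne
  exact ⟨z, hzC, by rw [range_closedPart]; exact hz⟩

/-- Restriction to the closed part is faithful. -/
theorem restrict_faithful : (FEt.restrict (closedPart I f)).Faithful :=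
  Pi1X.restrict_faithful _ (exists_mem_clopen A I f)

/-- Restriction to the closed part is full. -/
theorem restrict_full : (FEt.restrict (closedPart I f)).Full := by
  refine Pi1X.restrict_full _ (exists_mem_clopen A I f) fun W C hC => ?_
  haveI : IsFinite W.hom := W.prop.1
  let g : W.left ⟶ X := W.hom
  let h : W.left ⟶ Spec (CommRingCat.of A) := g ≫ f
  haveI : IsProper h := inferInstance
  have hr : g.base ⁻¹' Set.range (closedPart I f).base =
      h.base ⁻¹' PrimeSpectrum.zeroLocus (I : Set A) := by
    rw [range_closedPart]; rfl
  obtain ⟨U, hU, -⟩ := (HensCouple7.scheme_lifts_iff g (closedPart I f)).2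
    (by
      show HensCouple7.Lifts (g.base ⁻¹' Set.range (closedPart I f).base)
      rw [hr]; exact PBC50.lifts I h) C hC
  exact ⟨U, hU⟩

end Groth.Agent.PBC37
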