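import Groth.Agent.PBC37.Model
import Groth.Agent.LimMor.ProperApprox
import Groth.Agent.S12073
import Groth.Agent.S0599
import Groth.Agent.PopescuLib.HenzColim

/-!
# Reduction of lifting finite étale covers to henselian pairs which are G-rings

A proper scheme over any ring is a limit of proper schemes over rings of finite type over the integers.
-/

set_option autoImplicit false
set_option linter.style.haveILetI false
set_option linter.unusedSectionVars false

universe u

open CategoryTheory CategoryTheory.Limits AlgebraicGeometry TopologicalSpace Opposite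
open Groth.Agent.LimMor Groth.Agent.Pi1Ext

noncomputable section

namespace Groth.Agent.PBC37.Limit

set_option backward.isDefEq.respectTransparency false
set_option backward.isDefEq.respectTransparency.types false

instance isAffineHom_toZ (A : Type u) [CommRing A] : IsAffineHom (toZ (Spec (CommRingCat.of A))) :=
  isAffineHom_of_isAffine _

variable {A : Type u} [CommRing A] (I : Ideal A) {X : Scheme.{u}} (f : X ⟶ Spec (CommRingCat.of A))
  [IsProper f] {X₀ : Scheme.{u}} (a : X ⟶ X₀) [IsAffineHom a] (q : X₀ ⟶ specZ.{u})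
  [LocallyOfFiniteType q] [IsSeparated q] [AlgebraicGeometry.IsNoetherian X₀]

/-- The indices. -/
abbrev P : Type u := ProperPair f (toZ (Spec (CommRingCat.of A))) a q

theorem hq : a ≫ q = f ≫ toZ (Spec (CommRingCat.of A)) := specULiftZIsTerminal.hom_ext _ _

instance isNoetherian_specZ : AlgebraicGeometry.IsNoetherian specZ.{u} := ftz_specZ.isNoetherian

variable {f a q}

instance isAffine_stage (p : P f a q) : IsAffine p.1.n.sch := isAffine_of_isAffineHom p.1.n.π

/-- The ring of a stage. -/
abbrev R (p : P f a q) : CommRingCat.{u} := Γ(p.1.n.sch, ⊤)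

/-- Its map to the base ring. -/
def φ (p : P f a q) : R p ⟶ CommRingCat.of A := p.1.n.k.appTop ≫ (Scheme.ΓSpecIso (CommRingCat.of A)).hom

theorem k_isoSpec (p : P f a q) : p.1.n.k ≫ p.1.n.sch.isoSpec.hom = Spec.map (φ p) := by
  rw [← Scheme.isoSpec_hom_naturality, φ, Spec.map_comp, Scheme.isoSpec_Spec_hom]

/-- The transition maps. -/
def rtr {p p' : P f a q} (h : p ≤ p') : R p ⟶ R p' := (FTSub.trans h.2).appTop

theorem rtr_φ {p p' : P f a q} (h : p ≤ p') : rtr h ≫ φ p' = φ p := by
  rw [φ, φ, rtr, ← Category.assoc, ← Scheme.Hom.comp_appTop, FTSub.k_trans]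

theorem rtr_refl (p : P f a q) : rtr (le_refl p) = 𝟙 _ := by
  rw [rtr, show FTSub.trans (le_refl p : p ≤ p).2 = 𝟙 _ from
    FTSub.hom_ext (by rw [FTSub.trans_π, Category.id_comp]) (by rw [FTSub.k_trans, Category.comp_id])]
  rfl

theorem rtr_trans {p p' p'' : P f a q} (h : p ≤ p') (h' : p' ≤ p'') :
    rtr h ≫ rtr h' = rtr (h.trans h') := by
  rw [rtr, rtr, rtr, ← Scheme.Hom.comp_appTop]
  congr 1
  exact FTSub.hom_ext (by rw [Category.assoc, FTSub.trans_π, FTSub.trans_π, FTSub.trans_π])
    (by rw [FTSub.k_trans_assoc, FTSub.k_trans, FTSub.k_trans])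

/-- The ideal of a stage. -/
abbrev J (p : P f a q) : Ideal (R p) := I.comap (φ p).hom

theorem J_le {p p' : P f a q} (h : p ≤ p') : J I p ≤ (J I p').comap (rtr h).hom := by
  intro x hx
  show (rtr h ≫ φ p').hom x ∈ I
  rw [rtr_φ]
  exact hx

variable (f a q)

/-- The quotient rings. -/
def quots : P f a q ⥤ CommRingCat.{u} where
  obj p := CommRingCat.of (R p ⧸ J I p)
  map {p p'} h := CommRingCat.ofHom (Ideal.quotientMap (J I p') (rtr (leOfHom h)).hom (J_le I (leOfHom h)))
  map_id p := by
    ext x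
    show Ideal.Quotient.mk (J I p) ((rtr (le_refl p)).hom x) = Ideal.Quotient.mk (J I p) x
    rw [rtr_refl]
    rfl
  map_comp {p p' p''} h h' := by
    ext x
    show Ideal.Quotient.mk (J I p'') ((rtr ((leOfHom h).trans (leOfHom h'))).hom x) =
      Ideal.Quotient.mk (J I p'') ((rtr (leOfHom h) ≫ rtr (leOfHom h')).hom x)
    rw [rtr_trans]

/-- The maps to the quotient. -/
abbrev ψ (p : P f a q) : (R p ⧸ J I p) →+* A ⧸ I := Ideal.quotientMap I (φ p).hom le_rfl

/-- The cocone of quotient rings. -/
def quotCocone : Cocone (quots I f a q) where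
  pt := CommRingCat.of (A ⧸ I)
  ι :=
    { app := fun p => CommRingCat.ofHom (ψ I f a q p)
      naturality := fun p p' h => by
        ext x
        obtain ⟨x, rfl⟩ := Ideal.Quotient.mk_surjective x
        show Ideal.Quotient.mk I ((rtr (leOfHom h) ≫ φ p').hom x) = Ideal.Quotient.mk I ((φ p).hom x)
        rw [rtr_φ] }

include f a q in
theorem exists_preimage (z : A) : ∃ (p : P f a q) (x : R p), (φ p).hom x = z := by
  let s := toZ (Spec (CommRingCat.of A))
  let z' : Γ(Spec (CommRingCat.of A), s ⁻¹ᵁ ⊤) := (Scheme.ΓSpecIso (CommRingCat.of A)).inv z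
  obtain ⟨n, hn⟩ := exists_finite_subset_ring (f := s) (isAffineOpen_top specZ.{u}) (Set.finite_singleton z')
  obtain ⟨t, ht⟩ := (n.mem_ring_iff ⟨⊤, isAffineOpen_top specZ.{u}⟩ z').1 (hn (Set.mem_singleton z'))
  obtain ⟨l₀⟩ := (inferInstance : Nonempty (FTSub a))
  obtain ⟨p₀, -, hp₀⟩ := exists_pair_ge (hq f a q) l₀ n
  obtain ⟨p₁, h₁, hp₁⟩ := exists_proper_pair_ge (hq f a q) p₀
  subst hp₀
  refine ⟨⟨p₁, hp₁⟩, (FTSub.trans h₁.2).appTop t, ?_⟩
  show (p₁.n.k.appTop ≫ (Scheme.ΓSpecIso (CommRingCat.of A)).hom).hom ((FTSub.trans h₁.2).appTop t) = z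
  have e : p₀.n.k.appTop t = z' := by
    rw [← ht]
    simp [Scheme.Hom.appLE, Scheme.Hom.appTop]
  have e' : p₁.n.k.appTop ((FTSub.trans h₁.2).appTop t) = p₀.n.k.appTop t := by
    rw [← ConcreteCategory.comp_apply, ← Scheme.Hom.comp_appTop, FTSub.k_trans]
  show (Scheme.ΓSpecIso (CommRingCat.of A)).hom (p₁.n.k.appTop ((FTSub.trans h₁.2).appTop t)) = z
  rw [e', e]
  exact (Scheme.ΓSpecIso (CommRingCat.of A)).inv_hom_id_apply z

/-- The quotient is the colimit. -/
def isColimitQuot : IsColimit (quotCocone I f a q) := by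
  haveI := properPair_nonempty f (toZ (Spec (CommRingCat.of A))) a q (hq f a q)
  haveI := properPair_directed f (toZ (Spec (CommRingCat.of A))) a q (hq f a q)
  haveI : IsFiltered (P f a q) := inferInstance
  haveI : ReflectsColimit (quots I f a q) (forget CommRingCat.{u}) := reflectsColimit_of_reflectsIsomorphisms _ _
  refine isColimitOfReflects (forget CommRingCat.{u}) ?_
  refine Types.FilteredColimit.isColimitOf' _ _ (fun z => ?_) fun p x y h => ?_
  · obtain ⟨z, rfl⟩ := Ideal.Quotient.mk_surjective z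
    obtain ⟨p, x, hx⟩ := exists_preimage f a q z
    exact ⟨p, Ideal.Quotient.mk (J I p) x, (congrArg (Ideal.Quotient.mk I) hx).symm⟩
  · exact ⟨p, 𝟙 p, congrArg _ (Ideal.quotientMap_injective (f := (φ p).hom) h)⟩

variable {f a q}

/-- The model morphism of a stage. -/
abbrev g (p : P f a q) : p.1.l.sch ⟶ Spec (R p) := p.1.m ≫ p.1.n.sch.isoSpec.hom

theorem k_g (p : P f a q) : p.1.l.k ≫ g p = f ≫ Spec.map (φ p) := by
  rw [g, ← Category.assoc, p.1.k_m, Category.assoc, k_isoSpec]

theorem trans_g {p p' : P f a q} (h : p ≤ p') :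
    FTSub.trans h.1 ≫ g p = g p' ≫ Spec.map (rtr h) := by
  rw [g, g, Category.assoc, ← Category.assoc, Pair.trans_m h, Category.assoc, ← Scheme.isoSpec_hom_naturality]
  rfl

/-- The closed part of a stage. -/
abbrev W (p : P f a q) : Scheme.{u} := pullback (g p) (Spec.map (CommRingCat.ofHom (Ideal.Quotient.mk (J I p))))

/-- Transition maps of closed parts. -/
def Wtr {p p' : P f a q} (h : p ≤ p') : W I p' ⟶ W I p :=
  pullback.lift (pullback.fst _ _ ≫ FTSub.trans h.1)
    (pullback.snd _ _ ≫ Spec.map ((quots I f a q).map (homOfLE h))) (by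
      rw [Category.assoc, trans_g h, pullback.condition_assoc, Category.assoc, ← Spec.map_comp, ← Spec.map_comp]
      rfl)

theorem Wtr_fst {p p' : P f a q} (h : p ≤ p') :
    Wtr I h ≫ pullback.fst _ _ = pullback.fst _ _ ≫ FTSub.trans h.1 := pullback.lift_fst _ _ _

theorem Wtr_snd {p p' : P f a q} (h : p ≤ p') :
    Wtr I h ≫ pullback.snd _ _ = pullback.snd _ _ ≫ Spec.map ((quots I f a q).map (homOfLE h)) :=
  pullback.lift_snd _ _ _

instance isAffineHom_Wtr {p p' : P f a q} (h : p ≤ p') : IsAffineHom (Wtr I h) := by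
  haveI : IsAffineHom (Wtr I h ≫ pullback.fst _ _) := by rw [Wtr_fst]; infer_instance
  exact IsAffineHom.of_comp (Wtr I h) (pullback.fst _ _)

/-- The system of closed parts. -/
def wsys (f : X ⟶ Spec (CommRingCat.of A)) [IsProper f] (a : X ⟶ X₀) [IsAffineHom a] (q : X₀ ⟶ specZ.{u})
    [LocallyOfFiniteType q] [IsSeparated q] : (P f a q)ᵒᵖ ⥤ Scheme.{u} where
  obj p := W I p.unop
  map h := Wtr I (leOfHom h.unop)
  map_id p := pullback.hom_ext
    (by
      rw [Wtr_fst, Category.id_comp]
      exact (congrArg (pullback.fst _ _ ≫ ·) ((sys a).map_id (op p.unop.1.l))).trans (Category.comp_id _))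
    (by
      rw [Wtr_snd, Category.id_comp]
      show _ ≫ Spec.map ((quots I f a q).map (𝟙 p.unop)) = _
      rw [CategoryTheory.Functor.map_id, Spec.map_id]
      exact Category.comp_id _)
  map_comp {p p' p''} h h' := pullback.hom_ext
    (by
      rw [Wtr_fst, Category.assoc, Wtr_fst, ← Category.assoc, Wtr_fst, Category.assoc]
      exact congrArg (pullback.fst _ _ ≫ ·)
        ((sys a).map_comp (homOfLE (leOfHom h.unop).1).op (homOfLE (leOfHom h'.unop).1).op))
    (by
      rw [Wtr_snd, Category.assoc, Wtr_snd, ← Category.assoc, Wtr_snd, Category.assoc, ← Spec.map_comp,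
        ← Functor.map_comp]
      rfl)

/-- The projection to a stage. -/
def proj (p : P f a q) :
    pullback f (Spec.map (CommRingCat.ofHom (Ideal.Quotient.mk I))) ⟶ W I p :=
  pullback.lift (closedPart I f ≫ p.1.l.k) (pullback.snd _ _ ≫ Spec.map ((quotCocone I f a q).ι.app p)) (by
    rw [Category.assoc, k_g, pullback.condition_assoc, Category.assoc, ← Spec.map_comp, ← Spec.map_comp]
    rfl)

theorem proj_fst (p : P f a q) : proj I p ≫ pullback.fst _ _ = closedPart I f ≫ p.1.l.k :=
  pullback.lift_fst _ _ _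

theorem proj_snd (p : P f a q) :
    proj I p ≫ pullback.snd _ _ = pullback.snd _ _ ≫ Spec.map ((quotCocone I f a q).ι.app p) :=
  pullback.lift_snd _ _ _

/-- The cone. -/
def wcone (f : X ⟶ Spec (CommRingCat.of A)) [IsProper f] (a : X ⟶ X₀) [IsAffineHom a] (q : X₀ ⟶ specZ.{u})
    [LocallyOfFiniteType q] [IsSeparated q] : Cone (wsys I f a q) where
  pt := pullback f (Spec.map (CommRingCat.ofHom (Ideal.Quotient.mk I)))
  π :=
    { app := fun p => proj I p.unop
      naturality := fun p p' h => (Category.id_comp _).trans (pullback.hom_ext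
        (by
          show proj I p'.unop ≫ _ = (proj I p.unop ≫ Wtr I (leOfHom h.unop)) ≫ _
          rw [Category.assoc, Wtr_fst, ← Category.assoc, proj_fst, proj_fst, Category.assoc, FTSub.k_trans])
        (by
          show proj I p'.unop ≫ _ = (proj I p.unop ≫ Wtr I (leOfHom h.unop)) ≫ _
          rw [Category.assoc, Wtr_snd, ← Category.assoc, proj_snd, proj_snd, Category.assoc, ← Spec.map_comp]
          exact congrArg (fun t => pullback.snd _ _ ≫ Spec.map t)
            ((quotCocone I f a q).w (homOfLE (leOfHom h.unop))).symm)) }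

theorem nonempty_isLimit_wcone (f : X ⟶ Spec (CommRingCat.of A)) [IsProper f] (a : X ⟶ X₀) [IsAffineHom a]
    (q : X₀ ⟶ specZ.{u}) [LocallyOfFiniteType q] [IsSeparated q] :
    Nonempty (IsLimit (wcone I f a q)) := by
  let s := toZ (Spec (CommRingCat.of A))
  haveI := properPair_nonempty f s a q (hq f a q)
  haveI := properPair_directed f s a q (hq f a q)
  haveI := properIncl_initial f s a q (hq f a q)
  have hsrc := (Functor.Initial.isLimitWhiskerEquiv (properIncl f s a q).op _).symm
    (nonempty_isLimit_pairSrc f s a q (hq f a q)).some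
  have htgt := (Functor.Initial.isLimitWhiskerEquiv (properIncl f s a q).op _).symm
    (nonempty_isLimit_pairTgt f s a q (hq f a q)).some
  let hZ := isLimitOfPreserves Scheme.Spec (isColimitQuot I f a q).op
  let cX (c : Cone (wsys I f a q)) : Cone ((properIncl f s a q).op ⋙ pairSrc f s a q) :=
    { pt := c.pt
      π :=
        { app := fun p => c.π.app p ≫ pullback.fst _ _
          naturality := fun p p' h => by
            refine (Category.id_comp _).trans ?_
            rw [← c.w h, Category.assoc, Category.assoc]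
            refine congrArg (c.π.app p ≫ ·) ?_
            exact Wtr_fst I (leOfHom h.unop) } }
  let cZ (c : Cone (wsys I f a q)) : Cone ((quots I f a q).op ⋙ Scheme.Spec) :=
    { pt := c.pt
      π :=
        { app := fun p => c.π.app p ≫ pullback.snd _ _
          naturality := fun p p' h => by
            refine (Category.id_comp _).trans ?_
            rw [← c.w h, Category.assoc, Category.assoc]
            refine congrArg (c.π.app p ≫ ·) ?_
            exact Wtr_snd I (leOfHom h.unop) } }
  have hu : ∀ (c : Cone (wsys I f a q)) (p : (P f a q)ᵒᵖ),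
      hsrc.lift (cX c) ≫ p.unop.1.l.k = c.π.app p ≫ pullback.fst _ _ := fun c p => hsrc.fac (cX c) p
  have hv : ∀ (c : Cone (wsys I f a q)) (p : (P f a q)ᵒᵖ),
      hZ.lift (cZ c) ≫ Spec.map ((quotCocone I f a q).ι.app p.unop) = c.π.app p ≫ pullback.snd _ _ :=
    fun c p => hZ.fac (cZ c) p
  have hw : ∀ c : Cone (wsys I f a q), hsrc.lift (cX c) ≫ f =
      hZ.lift (cZ c) ≫ Spec.map (CommRingCat.ofHom (Ideal.Quotient.mk I)) := fun c => by
    refine htgt.hom_ext fun p => ?_
    show (hsrc.lift (cX c) ≫ f) ≫ p.unop.1.n.k =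
      (hZ.lift (cZ c) ≫ Spec.map (CommRingCat.ofHom (Ideal.Quotient.mk I))) ≫ p.unop.1.n.k
    rw [← cancel_mono p.unop.1.n.sch.isoSpec.hom]
    simp only [Category.assoc]
    rw [k_isoSpec, ← k_g, ← Category.assoc, hu, Category.assoc, pullback.condition, ← Category.assoc, ← hv,
      Category.assoc, ← Spec.map_comp, ← Spec.map_comp]
    rfl
  refine ⟨IsLimit.mk (fun c => pullback.lift _ _ (hw c)) (fun c p => ?_) fun c m hm => ?_⟩
  · refine pullback.hom_ext ?_ ?_
    · rw [← hu c p]
      show (_ ≫ proj I p.unop) ≫ _ = _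
      rw [Category.assoc, proj_fst, pullback.lift_fst_assoc]
    · rw [← hv c p]
      show (_ ≫ proj I p.unop) ≫ _ = _
      rw [Category.assoc, proj_snd, pullback.lift_snd_assoc]
  · refine pullback.hom_ext ?_ ?_
    · rw [pullback.lift_fst]
      refine hsrc.hom_ext fun p => ?_
      refine Eq.trans ?_ (hsrc.fac (cX c) p).symm
      show (m ≫ closedPart I f) ≫ p.unop.1.l.k = c.π.app p ≫ _
      rw [← hm p, Category.assoc, Category.assoc, ← proj_fst]
      rfl
    · rw [pullback.lift_snd]
      refine hZ.hom_ext fun p => ?_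
      refine Eq.trans ?_ (hZ.fac (cZ c) p).symm
      show (m ≫ pullback.snd _ _) ≫ Spec.map ((quotCocone I f a q).ι.app p.unop) = c.π.app p ≫ _
      rw [← hm p, Category.assoc, Category.assoc, ← proj_snd]
      rfl

theorem isGRing_R (p : P f a q) : CAlg.IsGRing (R p) := by
  let h := p.1.n.π
  letI : Algebra (ULift.{u} ℤ) (R p) :=
    ((Scheme.ΓSpecIso (CommRingCat.of (ULift.{u} ℤ))).inv ≫ h.appTop).hom.toAlgebra
  haveI : Algebra.FiniteType (ULift.{u} ℤ) (R p) := by
    have h1 : h.appTop.hom.FiniteType :=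
      HasRingHomProperty.appTop (P := @LocallyOfFiniteType) h inferInstance
    rw [← RingHom.finiteType_algebraMap, RingHom.algebraMap_toAlgebra, CommRingCat.hom_comp]
    exact h1.comp (RingHom.FiniteType.of_surjective _
      (ConcreteCategory.bijective_of_isIso (Scheme.ΓSpecIso (CommRingCat.of (ULift.{u} ℤ))).inv).2)
  exact S0599.result (ULift.{u} ℤ) PopescuLib.isGRing_uliftInt (R p)

end Limit

theorem compactSpace_closed {A : Type u} [CommRing A] {Y : Scheme.{u}} [CompactSpace Y]
    (h : Y ⟶ Spec (CommRingCat.of A)) (J : Ideal A) :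
    CompactSpace ↥(pullback h (Spec.map (CommRingCat.ofHom (Ideal.Quotient.mk J)))) :=
  QuasiCompact.compactSpace_of_compactSpace (closedPart J h)

theorem quasiSeparatedSpace_closed {A : Type u} [CommRing A] {Y : Scheme.{u}} [QuasiSeparatedSpace Y]
    (h : Y ⟶ Spec (CommRingCat.of A)) (J : Ideal A) :
    QuasiSeparatedSpace ↥(pullback h (Spec.map (CommRingCat.ofHom (Ideal.Quotient.mk J)))) :=
  quasiSeparatedSpace_of_quasiSeparated (closedPart J h)

open Limit in
/-- The lifting property over all henselian pairs follows from the case of G-rings. -/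
theorem essSurjAt_of_gRingCase (hG : GRingCase.{u}) (A : Type u) [CommRing A] (I : Ideal A) [HenselianRing A I] :
    EssSurjAt A I := by
  intro X f hf
  haveI : CompactSpace X := QuasiCompact.compactSpace_of_compactSpace f
  haveI : QuasiSeparatedSpace X := quasiSeparatedSpace_of_quasiSeparated f
  obtain ⟨X₀, a, q, hX, ha, -, hsep⟩ :=
    exists_affine_factor (f ≫ toZ (Spec (CommRingCat.of A))) ftz_specZ
  haveI := hX.isNoetherian
  haveI : LocallyOfFiniteType q := by
    rw [specULiftZIsTerminal.hom_ext q (toZ X₀)]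
    exact hX.lft
  haveI := hsep inferInstance
  let s := toZ (Spec (CommRingCat.of A))
  haveI := properPair_nonempty f s a q (hq f a q)
  haveI := properPair_directed f s a q (hq f a q)
  haveI : ∀ i, CompactSpace ((wsys I f a q).obj i) := fun i => by
    haveI := (hX.sch i.unop.1.l).compact
    exact compactSpace_closed (A := R i.unop) (g i.unop) (J I i.unop)
  haveI : ∀ i, QuasiSeparatedSpace ((wsys I f a q).obj i) := fun i => by
    haveI := (hX.sch i.unop.1.l).quasiSeparatedSpace
    exact quasiSeparatedSpace_closed (A := R i.unop) (g i.unop) (J I i.unop)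
  haveI : ∀ (i j : (P f a q)ᵒᵖ) (h : i ⟶ j), IsAffineHom ((wsys I f a q).map h) := fun i j h =>
    isAffineHom_Wtr I (leOfHom h.unop)
  refine ⟨fun E₀ => ?_⟩
  obtain ⟨p, Ep, ⟨ep⟩⟩ := (S12073.result (wsys I f a q) (wcone I f a q)
    (nonempty_isLimit_wcone I f a q).some).1 E₀
  haveI := p.unop.2
  obtain ⟨E, ⟨e⟩⟩ := exists_lift_of_model I (J I p.unop) f (g p.unop) hG (isGRing_R p.unop) (φ p.unop).hom
    Ideal.map_comap_le p.unop.1.l.k (k_g p.unop) (proj I p.unop) (proj_fst I p.unop) Ep
  exact ⟨E, ⟨e ≪≫ ep⟩⟩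

end Groth.Agent.PBC37
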