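import Groth.Agent.PBC37.Complete
import Groth.Agent.PBC37.Limit

/-!
# Finite étale covers of proper schemes over henselian pairs
-/

set_option autoImplicit false
set_option linter.style.haveILetI false

universe u

open CategoryTheory CategoryTheory.Limits AlgebraicGeometry

noncomputable section

namespace Groth.Agent.PBC37

/-- Every finite étale cover of the closed part of a proper scheme over a henselian pair lifts. -/
theorem essSurjAt (A : Type u) [CommRing A] (I : Ideal A) [HenselianRing A I] : EssSurjAt A I :=
  essSurjAt_of_gRingCase (gRingCase_of_completeCase completeCase) A I

/-- Restriction to the closed part is an equivalence. -/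
theorem restrict_isEquivalence (A : Type u) [CommRing A] (I : Ideal A) [HenselianRing A I] {X : Scheme.{u}}
    (f : X ⟶ Spec (CommRingCat.of A)) [IsProper f] : (FEt.restrict (closedPart I f)).IsEquivalence :=
  haveI := essSurjAt A I f
  haveI := restrict_faithful A I f
  haveI := restrict_full A I f
  { }

end Groth.Agent.PBC37
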