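import Groth.Agent.PBC37.FullFaithful
import Groth.Agent.Pi1Ext.Spread
import Groth.Agent.Hensel.Henselization
import Groth.Agent.Hensel.NoethPair
import Groth.Agent.S9276

/-!
# Lifting finite étale covers which come from a model over a G-ring
-/

set_option autoImplicit false
set_option linter.style.haveILetI false

universe u

open CategoryTheory CategoryTheory.Limits AlgebraicGeometry TopologicalSpace
open Groth.Agent.Pi1Ext

noncomputable section

namespace Groth.Agent.PBC37

set_option backward.isDefEq.respectTransparency false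

/-- Every finite étale cover of the closed part of a proper scheme lifts. -/
def EssSurjAt (R : Type u) [CommRing R] (J : Ideal R) : Prop :=
  ∀ {Y : Scheme.{u}} (g : Y ⟶ Spec (CommRingCat.of R)) [IsProper g], (FEt.restrict (closedPart J g)).EssSurj

/-- The lifting property over Noetherian henselian pairs which are G-rings. -/
def GRingCase : Prop :=
  ∀ (H : Type u) [CommRing H] (JH : Ideal H) [HenselianRing H JH], CAlg.IsGRing H → EssSurjAt H JH

variable {A R : Type u} [CommRing A] [CommRing R] (I : Ideal A) (J : Ideal R)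
  {X Y : Scheme.{u}} (f : X ⟶ Spec (CommRingCat.of A)) (g : Y ⟶ Spec (CommRingCat.of R))

theorem exists_lift_of_model [HenselianRing A I] [IsProper g] (hG : GRingCase.{u}) (hR : CAlg.IsGRing R)
    (φ : R →+* A) (hJ : J.map φ ≤ I) (b : X ⟶ Y) (hb : b ≫ g = f ≫ Spec.map (CommRingCat.ofHom φ))
    (b₀ : pullback f (Spec.map (CommRingCat.ofHom (Ideal.Quotient.mk I))) ⟶
      pullback g (Spec.map (CommRingCat.ofHom (Ideal.Quotient.mk J))))
    (hb₀ : b₀ ≫ closedPart J g = closedPart I f ≫ b)
    (E₀ : FEt.Cat (pullback g (Spec.map (CommRingCat.ofHom (Ideal.Quotient.mk J))))) :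
    ∃ E : FEt.Cat X, Nonempty ((FEt.restrict (closedPart I f)).obj E ≅ (FEt.restrict b₀).obj E₀) := by
  obtain ⟨hH, hu⟩ := Hensel.isPairHenselization_pairHenz R J
  let H := Hensel.PairHenz R J
  let ι : R →+* H := algebraMap R H
  let JH : Ideal H := J.map ι
  haveI : HenselianRing H JH := hH
  obtain ⟨ψ, hψ, -⟩ := hu A I φ inferInstance hJ
  have hGH : CAlg.IsGRing H := S9276.result R hR J H (Hensel.isPairHenselization_pairHenz R J)
  let sι := Spec.map (CommRingCat.ofHom ι)
  let sψ := Spec.map (CommRingCat.ofHom ψ)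
  have hψι : sψ ≫ sι = Spec.map (CommRingCat.ofHom φ) := by
    rw [← Spec.map_comp, ← CommRingCat.ofHom_comp, hψ]
  let gH : pullback g sι ⟶ Spec (CommRingCat.of H) := pullback.snd g sι
  haveI : IsProper gH := MorphismProperty.pullback_snd (P := @IsProper) _ _ inferInstance
  let θ : R ⧸ J →+* H ⧸ JH := Ideal.quotientMap JH ι Ideal.le_comap_map
  have hθ : θ.comp (Ideal.Quotient.mk J) = (Ideal.Quotient.mk JH).comp ι := Ideal.quotientMap_comp_mk _
  let c : pullback gH (Spec.map (CommRingCat.ofHom (Ideal.Quotient.mk JH))) ⟶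
      pullback g (Spec.map (CommRingCat.ofHom (Ideal.Quotient.mk J))) :=
    pullback.lift (pullback.fst _ _ ≫ pullback.fst _ _) (pullback.snd _ _ ≫ Spec.map (CommRingCat.ofHom θ)) (by
      rw [Category.assoc, Category.assoc, pullback.condition, pullback.condition_assoc, ← Spec.map_comp,
        ← Spec.map_comp, ← CommRingCat.ofHom_comp, ← CommRingCat.ofHom_comp, hθ])
  haveI := hG H JH hGH gH
  let EH := (FEt.restrict (closedPart JH gH)).objPreimage ((FEt.restrict c).obj E₀)
  let eH := (FEt.restrict (closedPart JH gH)).objObjPreimageIso ((FEt.restrict c).obj E₀)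
  let bH : X ⟶ pullback g sι := pullback.lift b (f ≫ sψ) (by rw [hb, Category.assoc, hψι])
  have hbH : bH ≫ gH = f ≫ sψ := pullback.lift_snd _ _ _
  have hJH : JH ≤ I.comap ψ := by
    show J.map ι ≤ _
    rw [Ideal.map_le_iff_le_comap, Ideal.comap_comap, hψ, ← Ideal.map_le_iff_le_comap]
    exact hJ
  let ψb : H ⧸ JH →+* A ⧸ I := Ideal.quotientMap I ψ hJH
  have hψb : ψb.comp (Ideal.Quotient.mk JH) = (Ideal.Quotient.mk I).comp ψ := Ideal.quotientMap_comp_mk _
  let d : pullback f (Spec.map (CommRingCat.ofHom (Ideal.Quotient.mk I))) ⟶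
      pullback gH (Spec.map (CommRingCat.ofHom (Ideal.Quotient.mk JH))) :=
    pullback.lift (closedPart I f ≫ bH) (pullback.snd _ _ ≫ Spec.map (CommRingCat.ofHom ψb)) (by
      rw [Category.assoc, Category.assoc, hbH, pullback.condition_assoc, ← Spec.map_comp, ← Spec.map_comp,
        ← CommRingCat.ofHom_comp, ← CommRingCat.ofHom_comp, hψb])
  have hd : d ≫ closedPart JH gH = closedPart I f ≫ bH := pullback.lift_fst _ _ _
  have hdc : b₀ = d ≫ c := by
    haveI : Mono (closedPart J g) := inferInstance
    rw [← cancel_mono (closedPart J g), hb₀]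
    simp [c, d, bH, closedPart]
  refine ⟨(FEt.restrict bH).obj EH, ⟨?_⟩⟩
  exact Spread.restrictSquare (closedPart I f) bH d (closedPart JH gH) hd.symm EH ≪≫
    (FEt.restrict d).mapIso eH ≪≫ (Spread.restrictComp d c b₀ hdc E₀).symm

end Groth.Agent.PBC37
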