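import Groth.Agent.PBC37.Algebraize
import Groth.Agent.AmpleVan.Mul
import Groth.Agent.AmpleVan.Vanish
import Groth.Agent.H23.TensorDesc
import Groth.Agent.PBC50.ConnFibre

/-!
# The multiplication on the algebraization
-/

set_option autoImplicit false
set_option linter.style.haveILetI false

universe u

open CategoryTheory CategoryTheory.Limits AlgebraicGeometry TopologicalSpace Opposite

noncomputable section

namespace Groth.Agent.PBC37

set_option backward.isDefEq.respectTransparency false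
set_option backward.isDefEq.respectTransparency.types false

open Groth.Agent.InvX (tmul res_tmul tmul_smul_left tmul_smul_right)
open Groth.Agent.AModX (res resR res_smul res_res)

variable {Y : Scheme.{u}}

theorem tmul_eq (M N : Y.Modules) (U : Y.Opens) (a : Γ(M, U)) (b : Γ(N, U)) :
    tmul a b = SecTwist.tmul M N U a b := rfl

theorem desc_tmul' {M N P : Y.Modules} (β : H23.TensorDesc.Bilin M N P) (U : Y.Opens) (a : Γ(M, U)) (b : Γ(N, U)) :
    (H23.TensorDesc.desc β).app U (tmul a b) = β.b U a b :=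
  H23.TensorDesc.desc_tmul β U a b

theorem hom_ext_tmul' {M N P : Y.Modules} {φ ψ : CohB1.tensorMod M N ⟶ P}
    (h : ∀ (U : Y.Opens) (a : Γ(M, U)) (b : Γ(N, U)), φ.app U (tmul a b) = ψ.app U (tmul a b)) : φ = ψ :=
  AmpleVan.hom_ext_tmul h

variable {C : Type u} [CommRing C] {K : Ideal C} [Y.Over (Spec (CommRingCat.of C))] {T : Tower K Y}

namespace Model

variable (m : Model T)

/-- The projections on sections, seen in the rings. -/
def qs (n : ℕ) (U : Y.Opens) : Γ(m.M, U) →+ Γ(T.E n, T.p n ⁻¹ᵁ U) := ((m.q n).app U).hom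

theorem qs_smul (n : ℕ) (U : Y.Opens) (r : Γ(Y, U)) (a : Γ(m.M, U)) :
    m.qs n U (r • a) = (T.p n).app U r * m.qs n U a :=
  Scheme.Modules.Hom.app_smul (m.q n) r a

theorem qs_res (n : ℕ) {U V : Y.Opens} (h : V ≤ U) (a : Γ(m.M, U)) :
    m.qs n V (res m.M h a) = (T.E n).presheaf.map (homOfLE ((T.p n).preimage_mono h)).op (m.qs n U a) :=
  QCoh.map_app_comm (m.q n) (homOfLE h) a

theorem qs_tr (n : ℕ) (U : Y.Opens) (a : Γ(m.M, U)) : T.trApp n U (m.qs (n + 1) U a) = m.qs n U a :=
  congr(($(m.q_tr n)).app U a)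

/-- The product of the projections, as a natural bilinear family. -/
def bilin (n : ℕ) : H23.TensorDesc.Bilin m.M m.M (T.obj n) where
  b U a b := (show Γ(T.obj n, U) from (m.qs n U a * m.qs n U b : Γ(T.E n, T.p n ⁻¹ᵁ U)))
  add_left U a a' b := by
    show (m.qs n U (a + a') * m.qs n U b : Γ(T.E n, T.p n ⁻¹ᵁ U)) = m.qs n U a * m.qs n U b + m.qs n U a' * m.qs n U b
    rw [map_add, add_mul]
  smul_left U r a b := by
    show (m.qs n U (r • a) * m.qs n U b : Γ(T.E n, T.p n ⁻¹ᵁ U)) = (T.p n).app U r * (m.qs n U a * m.qs n U b)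
    rw [qs_smul, mul_assoc]
  add_right U a b b' := by
    show (m.qs n U a * m.qs n U (b + b') : Γ(T.E n, T.p n ⁻¹ᵁ U)) = m.qs n U a * m.qs n U b + m.qs n U a * m.qs n U b'
    rw [map_add, mul_add]
  smul_right U r a b := by
    show (m.qs n U a * m.qs n U (r • b) : Γ(T.E n, T.p n ⁻¹ᵁ U)) = (T.p n).app U r * (m.qs n U a * m.qs n U b)
    rw [qs_smul, mul_left_comm]
  res {U V} h a b := by
    show (T.E n).presheaf.map (homOfLE ((T.p n).preimage_mono h)).op (m.qs n U a * m.qs n U b) =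
      m.qs n V (res m.M h a) * m.qs n V (res m.M h b)
    rw [qs_res, qs_res, map_mul]

theorem desc_bilin_tr (n : ℕ) :
    H23.TensorDesc.desc (m.bilin (n + 1)) ≫ T.tr n = H23.TensorDesc.desc (m.bilin n) := by
  refine hom_ext_tmul' fun U a b => ?_
  show (T.tr n).app U ((H23.TensorDesc.desc (m.bilin (n + 1))).app U (tmul a b)) = _
  rw [desc_tmul', desc_tmul', Tower.tr_app]
  show T.trApp n U (m.qs (n + 1) U a * m.qs (n + 1) U b) = (m.qs n U a * m.qs n U b : Γ(T.E n, T.p n ⁻¹ᵁ U))
  rw [map_mul, qs_tr, qs_tr]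

variable [IsLocallyNoetherian Y]

theorem exists_μ : ∃! φ : CohB1.tensorMod m.M m.M ⟶ m.M, ∀ n, φ ≫ m.q n = H23.TensorDesc.desc (m.bilin n) :=
  m.existsUnique_lift _ (AmpleVan.isCoh_tensor m.coh m.coh) _ m.desc_bilin_tr

/-- The multiplication. -/
def μ : CohB1.tensorMod m.M m.M ⟶ m.M := m.exists_μ.exists.choose

theorem μ_q (n : ℕ) : m.μ ≫ m.q n = H23.TensorDesc.desc (m.bilin n) := m.exists_μ.exists.choose_spec n

/-- The multiplication on sections. -/
def mul (U : Y.Opens) (a b : Γ(m.M, U)) : Γ(m.M, U) := m.μ.app U (tmul a b)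

theorem qs_mul (n : ℕ) (U : Y.Opens) (a b : Γ(m.M, U)) : m.qs n U (m.mul U a b) = m.qs n U a * m.qs n U b :=
  (congr(($(m.μ_q n)).app U (tmul a b))).trans (desc_tmul' _ U a b)

theorem add_mul' (U : Y.Opens) (a a' b : Γ(m.M, U)) : m.mul U (a + a') b = m.mul U a b + m.mul U a' b := by
  show m.μ.app U (tmul (a + a') b) = _
  rw [AmpleVan.tmul_add_left, map_add]
  rfl

theorem smul_mul' (U : Y.Opens) (r : Γ(Y, U)) (a b : Γ(m.M, U)) : m.mul U (r • a) b = r • m.mul U a b := by
  show m.μ.app U (tmul (r • a) b) = _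
  rw [tmul_smul_left, Scheme.Modules.Hom.app_smul]
  rfl

theorem mul_smul' (U : Y.Opens) (r : Γ(Y, U)) (a b : Γ(m.M, U)) : m.mul U a (r • b) = r • m.mul U a b := by
  show m.μ.app U (tmul a (r • b)) = _
  rw [tmul_smul_right, Scheme.Modules.Hom.app_smul]
  rfl

theorem res_mul {U V : Y.Opens} (h : V ≤ U) (a b : Γ(m.M, U)) :
    res m.M h (m.mul U a b) = m.mul V (res m.M h a) (res m.M h b) := by
  show _ = m.μ.app V (tmul (res m.M h a) (res m.M h b))
  rw [← res_tmul]
  exact (QCoh.map_app_comm m.μ (homOfLE h) _).symm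

theorem mul_zero' (U : Y.Opens) (a : Γ(m.M, U)) : m.mul U a 0 = 0 := by
  have h := m.mul_smul' U 0 a 0
  rwa [zero_smul, zero_smul] at h

theorem zero_mul' (U : Y.Opens) (a : Γ(m.M, U)) : m.mul U 0 a = 0 := by
  have h := m.add_mul' U 0 0 a
  rw [add_zero] at h
  exact left_eq_add.1 h

theorem mul_comm' (U : Y.Opens) (a b : Γ(m.M, U)) : m.mul U a b = m.mul U b a := by
  have hright : ∀ (U : Y.Opens) (a b b' : Γ(m.M, U)), m.mul U a (b + b') = m.mul U a b + m.mul U a b' := by
    intro U a b b'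
    show m.μ.app U ((KFlatLib.unitShP _).app (op U) (KFlatLib.tm (show (CohB1.toPMod m.M).obj (op U) from a)
      (show (CohB1.toPMod m.M).obj (op U) from b + b'))) = _
    erw [KFlatLib.tm, TensorProduct.tmul_add, map_add, map_add]
    rfl
  let β : H23.TensorDesc.Bilin m.M m.M m.M :=
    { b := fun U a b => m.mul U b a
      add_left := fun U a a' b => hright U b a a'
      smul_left := fun U r a b => m.mul_smul' U r b a
      add_right := fun U a b b' => m.add_mul' U b b' a
      smul_right := fun U r a b => m.smul_mul' U r b a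
      res := fun h a b => m.res_mul h b a }
  have key : m.μ = H23.TensorDesc.desc β := m.exists_μ.unique m.μ_q fun n => hom_ext_tmul' fun U a b => by
    show (m.q n).app U ((H23.TensorDesc.desc β).app U (tmul a b)) = _
    rw [desc_tmul', desc_tmul']
    show m.qs n U (m.mul U b a) = (m.qs n U a * m.qs n U b : Γ(T.E n, T.p n ⁻¹ᵁ U))
    rw [qs_mul, mul_comm]
  exact (congr(($key).app U (tmul a b))).trans (desc_tmul' β U a b)

theorem mul_add' (U : Y.Opens) (a b b' : Γ(m.M, U)) : m.mul U a (b + b') = m.mul U a b + m.mul U a b' := by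
  rw [m.mul_comm', add_mul', m.mul_comm' U b, m.mul_comm' U b']

/-- The units of the levels. -/
def unitHom (n : ℕ) : Coh.structureModule Y ⟶ T.obj n :=
  ⟨PresheafOfModules.homMk
    { app := fun U => AddCommGrpCat.ofHom
        (show Γ(Y, U.unop) →+ Γ(T.E n, T.p n ⁻¹ᵁ U.unop) from ((T.p n).app U.unop).hom.toAddMonoidHom)
      naturality := fun U V i => by
        ext x
        exact congr($((T.p n).c.naturality i) x) }
    fun U r x => map_mul ((T.p n).app U.unop).hom _ _⟩

theorem exists_e : ∃! φ : Coh.structureModule Y ⟶ m.M, ∀ n, φ ≫ m.q n = unitHom n :=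
  m.existsUnique_lift _ QCoh.isCoh_structureModule' _ fun n => QCoh.hom_ext_app fun U x => T.trApp_app n U x

/-- The unit map. -/
def e : Coh.structureModule Y ⟶ m.M := m.exists_e.exists.choose

theorem e_q (n : ℕ) : m.e ≫ m.q n = unitHom n := m.exists_e.exists.choose_spec n

/-- The unit on sections. -/
def one (U : Y.Opens) : Γ(m.M, U) := m.e.app U (show Γ(Coh.structureModule Y, U) from (1 : Γ(Y, U)))

theorem qs_one (n : ℕ) (U : Y.Opens) : m.qs n U (m.one U) = 1 :=
  (congr(($(m.e_q n)).app U (show Γ(Coh.structureModule Y, U) from (1 : Γ(Y, U))))).trans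
    (map_one ((T.p n).app U).hom)

theorem res_one {U V : Y.Opens} (h : V ≤ U) : res m.M h (m.one U) = m.one V :=
  (QCoh.map_app_comm m.e (homOfLE h) _).symm.trans
    (congrArg (m.e.app V) (map_one (Y.presheaf.map (homOfLE h).op).hom))

theorem one_mul' (U : Y.Opens) (a : Γ(m.M, U)) : m.mul U (m.one U) a = a := by
  let φ : m.M ⟶ m.M :=
    ⟨PresheafOfModules.homMk
      { app := fun U => AddCommGrpCat.ofHom
          (AddMonoidHom.mk' (fun a => m.mul U.unop (m.one U.unop) a) fun a b => m.mul_add' U.unop _ a b :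
            Γ(m.M, U.unop) →+ Γ(m.M, U.unop))
        naturality := fun U V i => by
          ext a
          show m.mul V.unop (m.one V.unop) (res m.M i.unop.le a) = res m.M i.unop.le (m.mul U.unop (m.one U.unop) a)
          rw [res_mul, res_one] }
      fun U r a => m.mul_smul' U.unop r _ a⟩
  have key : φ = 𝟙 _ := (m.existsUnique_lift m.M m.coh m.q m.q_tr).unique
    (fun n => QCoh.hom_ext_app fun U a => by
      show m.qs n U (m.mul U (m.one U) a) = m.qs n U a
      rw [qs_mul, qs_one, one_mul])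
    fun n => Category.id_comp _
  exact congr(($key).app U a)

variable [IsNoetherianRing C] [IsAdicComplete K C] [IsProper (Y ↘ Spec (CommRingCat.of C))]

omit [IsLocallyNoetherian Y] [IsNoetherianRing C] [IsAdicComplete K C] [IsProper (Y ↘ Spec (CommRingCat.of C))] in
theorem germ_scalU_mem {U : Y.Opens} {x : Y} (hx : x ∈ U)
    (hx0 : (Y ↘ Spec (CommRingCat.of C)).base x ∈ PrimeSpectrum.zeroLocus (K : Set C)) {r : Γ(Y, U)}
    (hr : r ∈ K.map (FFun.φsec U)) : Y.presheaf.germ U x hx r ∈ IsLocalRing.maximalIdeal (Y.presheaf.stalk x) := by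
  suffices h : K.map (FFun.φsec U) ≤ (IsLocalRing.maximalIdeal (Y.presheaf.stalk x)).comap
      (Y.presheaf.germ U x hx).hom from h hr
  rw [Ideal.map_le_iff_le_comap]
  intro c hc hu
  let f := Y ↘ Spec (CommRingCat.of C)
  let s := (Scheme.ΓSpecIso (CommRingCat.of C)).inv c
  have h1 : x ∈ Y.basicOpen (f.appTop s) := by
    rw [Scheme.mem_basicOpen_top]
    rw [← Y.presheaf.germ_res_apply (homOfLE (le_top : U ≤ ⊤)) x hx]
    exact hu
  rw [← Scheme.preimage_basicOpen_top] at h1
  have h2 : f.base x ∈ PrimeSpectrum.basicOpen c := by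
    rw [← SetLike.mem_coe]
    rw [AlgebraicGeometry.basicOpen_eq_of_affine'] at h1
    simpa [s] using h1
  exact h2 (hx0 hc)

omit [IsAdicComplete K C] [IsProper (Y ↘ Spec (CommRingCat.of C))] [IsNoetherianRing C] in
theorem germ_eq_zero {U : Y.Opens} (hU : IsAffineOpen U) {x : Y} (hx : x ∈ U)
    (hx0 : (Y ↘ Spec (CommRingCat.of C)).base x ∈ PrimeSpectrum.zeroLocus (K : Set C)) {d : Γ(m.M, U)}
    (hd : ∀ n, m.qs n U d = 0) : m.M.presheaf.germ U x hx d = 0 := by
  haveI : IsNoetherianRing Γ(Y, U) := IsLocallyNoetherian.component_noetherian ⟨U, hU⟩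
  haveI : Module.Finite Γ(Y, U) Γ(m.M, U) := QCoh.finite_sections m.coh hU
  have hmem : d ∈ (⨅ i : ℕ, K.map (FFun.φsec U) ^ i • ⊤ : Submodule Γ(Y, U) Γ(m.M, U)) := by
    rw [Submodule.mem_iInf]
    rintro (_ | i)
    · rw [pow_zero, Ideal.one_eq_top, Submodule.top_smul]; trivial
    · rw [← Ideal.map_pow]
      exact (m.q_eq_zero_iff i hU d).1 (hd i)
  obtain ⟨r, hr⟩ := ((K.map (FFun.φsec U)).mem_iInf_smul_pow_eq_bot_iff d).1 hmem
  have h2 : Y.presheaf.germ U x hx r.1 • m.M.presheaf.germ U x hx d = m.M.presheaf.germ U x hx d := by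
    rw [← QCoh.germ_smul', hr]
  have hu : IsUnit (1 - Y.presheaf.germ U x hx r.1) := by
    rcases IsLocalRing.isUnit_or_isUnit_one_sub_self (Y.presheaf.germ U x hx r.1) with h | h
    · exact absurd h (germ_scalU_mem hx hx0 r.2)
    · exact h
  refine hu.smul_left_cancel.1 ?_
  rw [smul_zero, sub_smul, one_smul, h2, sub_self]

omit [IsNoetherianRing C] in
theorem assoc' (V : Y.Opens) (a b c : Γ(m.M, V)) : m.mul V (m.mul V a b) c = m.mul V a (m.mul V b c) := by
  refine TopCat.Presheaf.section_ext ⟨m.M.presheaf, Scheme.Modules.isSheaf m.M⟩ _ _ _ fun y hy => ?_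
  haveI := IsAdicComplete.henselianRing C K
  obtain ⟨x, hx0, hxy⟩ := PBC50.nonempty_inter_preimage_zeroLocus K (Y ↘ Spec (CommRingCat.of C))
    (D := closure {y}) isClosed_closure ⟨y, subset_closure rfl⟩
  replace hxy : y ⤳ x := specializes_iff_mem_closure.2 hxy
  obtain ⟨_, ⟨U, hU, rfl⟩, hxU, -⟩ := Y.isBasis_affineOpens.exists_subset_of_mem_open (Set.mem_univ x) isOpen_univ
  have hyU : y ∈ U := hxy.mem_open U.2 hxU
  obtain ⟨g, hgV, hyg⟩ := hU.exists_basicOpen_le (V := U ⊓ V) ⟨y, hyU, hy⟩ hyU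
  let D := Y.basicOpen g
  have hDU : D ≤ U := Y.basicOpen_le g
  have hDV : D ≤ V := hgV.trans inf_le_right
  have lift : ∀ s : Γ(m.M, V), ∃ (k : ℕ) (t : Γ(m.M, U)), res m.M hDU t = resR hDU g ^ k • res m.M hDV s :=
    fun s => QCoh.exists_pow_smul_eq_map m.coh.1 hU g (res m.M hDV s)
  obtain ⟨ka, a', ha⟩ := lift a
  obtain ⟨kb, b', hb⟩ := lift b
  obtain ⟨kc, c', hc⟩ := lift c
  let d := m.mul U (m.mul U a' b') c' - m.mul U a' (m.mul U b' c')
  have hd : m.M.presheaf.germ U x hxU d = 0 := m.germ_eq_zero hU hxU hx0 fun n => by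
    simp only [d, map_sub, qs_mul, mul_assoc, sub_self]
  have hdy : m.M.presheaf.germ U y hyU d = 0 := by
    have e := congr($(m.M.presheaf.germ_stalkSpecializes (U := U) hxU hxy) d)
    exact e.symm.trans ((congrArg (m.M.presheaf.stalkSpecializes hxy) hd).trans (map_zero _))
  have hdD : res m.M hDU d = (resR hDU g ^ (ka + kb + kc)) •
      (res m.M hDV (m.mul V (m.mul V a b) c) - res m.M hDV (m.mul V a (m.mul V b c))) := by
    simp only [d, map_sub, res_mul, ha, hb, hc, smul_mul', mul_smul', smul_smul, smul_sub]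
    congr 2 <;> ring
  have h0 : m.M.presheaf.germ D y hyg (res m.M hDU d) = 0 :=
    (m.M.presheaf.germ_res_apply (homOfLE hDU) y hyg d).trans hdy
  rw [hdD, QCoh.germ_smul'] at h0
  have hu : IsUnit (Y.presheaf.germ D y hyg (resR hDU g ^ (ka + kb + kc))) :=
    ((RingedSpace.isUnit_res_basicOpen Y.toRingedSpace g).pow _).map (Y.presheaf.germ D y hyg).hom
  have h1 := hu.smul_left_cancel.1 (h0.trans (smul_zero _).symm)
  rw [map_sub, sub_eq_zero] at h1
  exact (m.M.presheaf.germ_res_apply (homOfLE hDV) y hyg _).symm.trans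
    (h1.trans (m.M.presheaf.germ_res_apply (homOfLE hDV) y hyg _))

end Model

end Groth.Agent.PBC37
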