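import Groth.Agent.PBC37.FullFaithful
import Groth.Agent.Pi1Ext.Spread
import Groth.Agent.S0238
import Groth.Agent.ArtFunLib.HilbAffine
import Groth.Agent.FFun.Basic
import Groth.Prelude.Def_Formal

/-!
# The tower of finite étale covers of the infinitesimal neighbourhoods of the closed part
-/

set_option autoImplicit false
set_option linter.style.haveILetI false

universe u

open CategoryTheory CategoryTheory.Limits AlgebraicGeometry TopologicalSpace Opposite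
open Groth.Agent.Pi1Ext

noncomputable section

namespace Groth.Agent.PBC37

set_option backward.isDefEq.respectTransparency false

variable {C : Type u} [CommRing C] (K : Ideal C) (Y : Scheme.{u}) [Y.Over (Spec (CommRingCat.of C))]

/-- The scalars on the sections over an open. -/
abbrev scalU (U : Y.Opens) : C →+* Γ(Y, U) :=
  (show Coh.Γtop Y →+* Γ(Y, U) from Coh.resTop Y (op U)).comp
    (Coh.toGlobal (Y ↘ Spec (CommRingCat.of C)))

/-- A tower of finite étale covers of the infinitesimal neighbourhoods, seen over `Y`. -/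
structure Tower where
  /-- the covers -/
  E : ℕ → Scheme.{u}
  /-- the projections -/
  p : ∀ n, E n ⟶ Y
  finite : ∀ n, IsFinite (p n)
  /-- the transition maps -/
  t : ∀ n, E n ⟶ E (n + 1)
  t_p : ∀ n, t n ≫ p (n + 1) = p n
  killed : ∀ (n : ℕ) (U : Y.Opens) (c : C), c ∈ K ^ (n + 1) → (p n).app U (scalU Y U c) = 0
  surj : ∀ (n : ℕ) (U : Y.affineOpens) (e : (p n) ⁻¹ᵁ U.1 ≤ t n ⁻¹ᵁ (p (n + 1) ⁻¹ᵁ U.1)),
    Function.Surjective ((t n).appLE (p (n + 1) ⁻¹ᵁ U.1) ((p n) ⁻¹ᵁ U.1) e).hom ∧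
    RingHom.ker ((t n).appLE (p (n + 1) ⁻¹ᵁ U.1) ((p n) ⁻¹ᵁ U.1) e).hom =
      (K ^ (n + 1)).map (((p (n + 1)).app U.1).hom.comp (scalU Y U.1))
  etale : ∀ (n : ℕ) (U : Y.affineOpens),
    ∃ ψ : Γ(Y, U.1) ⧸ (K ^ (n + 1)).map (scalU Y U.1) →+* Γ(E n, p n ⁻¹ᵁ U.1),
      ψ.comp (Ideal.Quotient.mk _) = ((p n).app U.1).hom ∧ ψ.Etale

section construction

/-- The `n`-th infinitesimal neighbourhood. -/
abbrev nbhdS (n : ℕ) : Scheme.{u} :=
  pullback (Y ↘ Spec (CommRingCat.of C)) (Spec.map (CommRingCat.ofHom (Ideal.Quotient.mk (K ^ (n + 1)))))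

/-- Its inclusion. -/
abbrev nbhdι (n : ℕ) : nbhdS K Y n ⟶ Y := closedPart (K ^ (n + 1)) (Y ↘ Spec (CommRingCat.of C))

/-- The transition between quotients. -/
abbrev qtr (n : ℕ) : CommRingCat.of (C ⧸ K ^ (n + 1 + 1)) ⟶ CommRingCat.of (C ⧸ K ^ (n + 1)) :=
  CommRingCat.ofHom (Ideal.Quotient.factor (Ideal.pow_le_pow_right (Nat.le_succ _)))

/-- The transition between neighbourhoods. -/
def nbhdJ (n : ℕ) : nbhdS K Y n ⟶ nbhdS K Y (n + 1) :=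
  pullback.lift (pullback.fst _ _) (pullback.snd _ _ ≫ Spec.map (qtr K n)) (by
    rw [Category.assoc, ← Spec.map_comp, ← CommRingCat.ofHom_comp, Ideal.Quotient.factor_comp_mk,
      pullback.condition])

theorem nbhdJ_ι (n : ℕ) : nbhdJ K Y n ≫ nbhdι K Y (n + 1) = nbhdι K Y n := pullback.lift_fst _ _ _

theorem nbhdJ_snd (n : ℕ) :
    nbhdJ K Y n ≫ pullback.snd _ _ = pullback.snd _ _ ≫ Spec.map (qtr K n) := pullback.lift_snd _ _ _

theorem isPullback_nbhdJ (n : ℕ) :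
    IsPullback (nbhdJ K Y n) (pullback.snd _ _) (pullback.snd _ _) (Spec.map (qtr K n)) := by
  refine IsPullback.of_right ?_ (nbhdJ_snd K Y n) (IsPullback.of_hasPullback _ _)
  rw [show nbhdJ K Y n ≫ pullback.fst _ _ = pullback.fst _ _ from nbhdJ_ι K Y n, ← Spec.map_comp,
    ← CommRingCat.ofHom_comp, Ideal.Quotient.factor_comp_mk]
  exact IsPullback.of_hasPullback _ _

theorem range_nbhdι (n : ℕ) :
    Set.range (nbhdι K Y n).base =
      (Y ↘ Spec (CommRingCat.of C)).base ⁻¹' PrimeSpectrum.zeroLocus (K : Set C) := by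
  rw [range_closedPart, PrimeSpectrum.zeroLocus_pow K (Nat.succ_ne_zero n)]

instance (n : ℕ) : IsClosedImmersion (nbhdJ K Y n) := by
  haveI : IsClosedImmersion (nbhdJ K Y n ≫ nbhdι K Y (n + 1)) := by rw [nbhdJ_ι]; infer_instance
  exact IsClosedImmersion.of_comp (nbhdJ K Y n) (nbhdι K Y (n + 1))

instance (n : ℕ) : Surjective (nbhdJ K Y n) := by
  refine ⟨fun x => ?_⟩
  have hx : (nbhdι K Y (n + 1)).base x ∈ Set.range (nbhdι K Y n).base := by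
    rw [range_nbhdι, ← range_nbhdι K Y (n + 1)]
    exact ⟨x, rfl⟩
  obtain ⟨z, hz⟩ := hx
  refine ⟨z, ?_⟩
  have hmono : Function.Injective (nbhdι K Y (n + 1)).base :=
    (nbhdι K Y (n + 1)).isClosedEmbedding.injective
  refine hmono (Eq.trans ?_ hz)
  rw [← nbhdJ_ι K Y n]
  rfl

variable {K Y}

/-- The levels. -/
def cov (E₀ : FEt.Cat (nbhdS K Y 0)) : ∀ n, FEt.Cat (nbhdS K Y n)
  | 0 => E₀
  | n + 1 => haveI := S0238.result (nbhdJ K Y n); (FEt.restrict (nbhdJ K Y n)).objPreimage (cov E₀ n)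

/-- The comparison of consecutive levels. -/
def covIso (E₀ : FEt.Cat (nbhdS K Y 0)) (n : ℕ) :
    (FEt.restrict (nbhdJ K Y n)).obj (cov E₀ (n + 1)) ≅ cov E₀ n :=
  haveI := S0238.result (nbhdJ K Y n)
  (FEt.restrict (nbhdJ K Y n)).objObjPreimageIso (cov E₀ n)

/-- The projection to `Y`. -/
abbrev covP (E₀ : FEt.Cat (nbhdS K Y 0)) (n : ℕ) : (cov E₀ n).left ⟶ Y := (cov E₀ n).hom ≫ nbhdι K Y n

/-- The transition map of the covers. -/
def covT (E₀ : FEt.Cat (nbhdS K Y 0)) (n : ℕ) : (cov E₀ n).left ⟶ (cov E₀ (n + 1)).left :=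
  (Spread.leftIso (covIso E₀ n)).inv ≫ pullback.fst (cov E₀ (n + 1)).hom (nbhdJ K Y n)

theorem isPullback_covT (E₀ : FEt.Cat (nbhdS K Y 0)) (n : ℕ) :
    IsPullback (covT E₀ n) (cov E₀ n).hom (cov E₀ (n + 1)).hom (nbhdJ K Y n) := by
  refine IsPullback.of_iso (IsPullback.of_hasPullback (cov E₀ (n + 1)).hom (nbhdJ K Y n))
    (Spread.leftIso (covIso E₀ n)) (Iso.refl _) (Iso.refl _) (Iso.refl _) ?_ ?_ (by simp) (by simp)
  · show pullback.fst _ _ ≫ 𝟙 _ = (Spread.leftIso (covIso E₀ n)).hom ≫ covT E₀ n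
    rw [covT, Iso.hom_inv_id_assoc, Category.comp_id]
  · show pullback.snd _ _ ≫ 𝟙 _ = (Spread.leftIso (covIso E₀ n)).hom ≫ (cov E₀ n).hom
    rw [Category.comp_id]
    exact (Spread.leftIso_w (covIso E₀ n)).symm

theorem covT_covP (E₀ : FEt.Cat (nbhdS K Y 0)) (n : ℕ) : covT E₀ n ≫ covP E₀ (n + 1) = covP E₀ n := by
  rw [covP, (isPullback_covT E₀ n).w_assoc, nbhdJ_ι]

instance isFinite_covP (E₀ : FEt.Cat (nbhdS K Y 0)) (n : ℕ) : IsFinite (covP E₀ n) := by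
  haveI : IsFinite (cov E₀ n).hom := (cov E₀ n).prop.1
  infer_instance

omit K in
theorem app_scalU {Z : Scheme.{u}} (p : Z ⟶ Y) {R : CommRingCat.{u}} (q : Z ⟶ Spec R)
    (σ : CommRingCat.of C ⟶ R) (h : p ≫ (Y ↘ Spec (CommRingCat.of C)) = q ≫ Spec.map σ) (U : Y.Opens) (c : C) :
    p.app U (scalU Y U c) =
      q.appLE ⊤ (p ⁻¹ᵁ U) (fun _ _ => trivial) ((Scheme.ΓSpecIso R).inv (σ c)) := by
  have e2 : (Scheme.ΓSpecIso R).inv (σ c) = (Spec.map σ).appTop ((Scheme.ΓSpecIso (CommRingCat.of C)).inv c) :=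
    congr($(Scheme.ΓSpecIso_inv_naturality σ) c)
  have key : (Y ↘ Spec (CommRingCat.of C)).appTop ≫ Y.presheaf.map (homOfLE (le_top : U ≤ ⊤)).op ≫ p.app U =
      (Spec.map σ).appTop ≫ q.appLE ⊤ (p ⁻¹ᵁ U) (fun _ _ => trivial) := by
    rw [Scheme.Hom.naturality, Scheme.Hom.appLE]
    rw [← Category.assoc, ← Category.assoc]
    change (p ≫ (Y ↘ Spec (CommRingCat.of C))).appTop ≫ _ = (q ≫ Spec.map σ).appTop ≫ _
    rw [show (p ≫ (Y ↘ Spec (CommRingCat.of C))).appTop = (q ≫ Spec.map σ).appTop from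
      congrArg Scheme.Hom.appTop h]
    rfl
  rw [e2]
  exact congr($key ((Scheme.ΓSpecIso (CommRingCat.of C)).inv c))

theorem covP_base (E₀ : FEt.Cat (nbhdS K Y 0)) (n : ℕ) :
    covP E₀ n ≫ (Y ↘ Spec (CommRingCat.of C)) =
      ((cov E₀ n).hom ≫ pullback.snd _ _) ≫ Spec.map (CommRingCat.ofHom (Ideal.Quotient.mk (K ^ (n + 1)))) := by
  rw [covP, Category.assoc, pullback.condition, ← Category.assoc]

theorem covP_killed (E₀ : FEt.Cat (nbhdS K Y 0)) (n : ℕ) (U : Y.Opens) (c : C) (hc : c ∈ K ^ (n + 1)) :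
    (covP E₀ n).app U (scalU Y U c) = 0 := by
  rw [app_scalU _ _ _ (covP_base E₀ n)]
  show ((cov E₀ n).hom ≫ pullback.snd _ _).appLE ⊤ _ _ ((Scheme.ΓSpecIso _).inv (Ideal.Quotient.mk _ c)) = 0
  rw [Ideal.Quotient.eq_zero_iff_mem.2 hc, map_zero, map_zero]

theorem surj_of_isPullback {n : ℕ} {E E' : Scheme.{u}} {h : E ⟶ nbhdS K Y n} {h' : E' ⟶ nbhdS K Y (n + 1)}
    {t : E ⟶ E'} (sq : IsPullback t h h' (nbhdJ K Y n)) [IsFinite h'] (U : Y.affineOpens)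
    (e : (h ≫ nbhdι K Y n) ⁻¹ᵁ U.1 ≤ t ⁻¹ᵁ ((h' ≫ nbhdι K Y (n + 1)) ⁻¹ᵁ U.1)) :
    Function.Surjective (t.appLE ((h' ≫ nbhdι K Y (n + 1)) ⁻¹ᵁ U.1) ((h ≫ nbhdι K Y n) ⁻¹ᵁ U.1) e).hom ∧
    RingHom.ker (t.appLE ((h' ≫ nbhdι K Y (n + 1)) ⁻¹ᵁ U.1) ((h ≫ nbhdι K Y n) ⁻¹ᵁ U.1) e).hom =
      (K ^ (n + 1)).map (((h' ≫ nbhdι K Y (n + 1)).app U.1).hom.comp (scalU Y U.1)) := by
  have sq' := sq.paste_vert (isPullback_nbhdJ K Y n)
  have hφ : Function.Surjective (qtr K n) :=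
    Ideal.Quotient.factor_surjective (Ideal.pow_le_pow_right (Nat.le_succ (n + 1)))
  have hp : h ≫ nbhdι K Y n = t ≫ h' ≫ nbhdι K Y (n + 1) := by rw [sq.w_assoc, nbhdJ_ι]
  have hb : (h' ≫ nbhdι K Y (n + 1)) ≫ (Y ↘ Spec (CommRingCat.of C)) =
      (h' ≫ pullback.snd _ _) ≫ Spec.map (CommRingCat.ofHom (Ideal.Quotient.mk (K ^ (n + 1 + 1)))) := by
    rw [Category.assoc, pullback.condition, ← Category.assoc]
  obtain ⟨h1, h2⟩ := ArtFunLib.HilbAffine.ker_appLE_of_isPullback hφ sq'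
    ⟨(h' ≫ nbhdι K Y (n + 1)) ⁻¹ᵁ U.1, U.2.preimage _⟩ ((h ≫ nbhdι K Y n) ⁻¹ᵁ U.1) (by rw [hp]; rfl) e
  refine ⟨h1, h2.trans ?_⟩
  rw [show RingHom.ker (qtr K n).hom = (K ^ (n + 1)).map (Ideal.Quotient.mk (K ^ (n + 1 + 1))) from
    Ideal.Quotient.factor_ker (Ideal.pow_le_pow_right (Nat.le_succ (n + 1))), Ideal.map_map]
  refine congrArg (fun φ : C →+* _ => (K ^ (n + 1)).map φ) (RingHom.ext fun c => ?_)
  exact (app_scalU _ _ _ hb U.1 c).symm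

theorem covT_surj (E₀ : FEt.Cat (nbhdS K Y 0)) (n : ℕ) (U : Y.affineOpens)
    (e : covP E₀ n ⁻¹ᵁ U.1 ≤ covT E₀ n ⁻¹ᵁ (covP E₀ (n + 1) ⁻¹ᵁ U.1)) :
    Function.Surjective ((covT E₀ n).appLE (covP E₀ (n + 1) ⁻¹ᵁ U.1) (covP E₀ n ⁻¹ᵁ U.1) e).hom ∧
    RingHom.ker ((covT E₀ n).appLE (covP E₀ (n + 1) ⁻¹ᵁ U.1) (covP E₀ n ⁻¹ᵁ U.1) e).hom =
      (K ^ (n + 1)).map (((covP E₀ (n + 1)).app U.1).hom.comp (scalU Y U.1)) :=
  haveI : IsFinite (cov E₀ (n + 1)).hom := (cov E₀ (n + 1)).prop.1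
  surj_of_isPullback (isPullback_covT E₀ n) U e

theorem covP_etale (E₀ : FEt.Cat (nbhdS K Y 0)) (n : ℕ) (U : Y.affineOpens) :
    ∃ ψ : Γ(Y, U.1) ⧸ (K ^ (n + 1)).map (scalU Y U.1) →+* Γ((cov E₀ n).left, covP E₀ n ⁻¹ᵁ U.1),
      ψ.comp (Ideal.Quotient.mk _) = ((covP E₀ n).app U.1).hom ∧ ψ.Etale := by
  haveI : Etale (cov E₀ n).hom := (cov E₀ n).prop.2
  haveI : IsFinite (cov E₀ n).hom := (cov E₀ n).prop.1
  obtain ⟨h1, h2⟩ := ArtFunLib.HilbAffine.ker_appLE_of_isPullback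
    (φ := CommRingCat.ofHom (Ideal.Quotient.mk (K ^ (n + 1)))) Ideal.Quotient.mk_surjective
    (IsPullback.of_hasPullback (Y ↘ Spec (CommRingCat.of C))
      (Spec.map (CommRingCat.ofHom (Ideal.Quotient.mk (K ^ (n + 1))))))
    U (nbhdι K Y n ⁻¹ᵁ U.1) rfl le_rfl
  rw [← Scheme.Hom.app_eq_appLE] at h1 h2
  have hV : IsAffineOpen (nbhdι K Y n ⁻¹ᵁ U.1) := U.2.preimage _
  have het : ((cov E₀ n).hom.app (nbhdι K Y n ⁻¹ᵁ U.1)).hom.Etale := by
    rw [Scheme.Hom.app_eq_appLE]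
    exact HasRingHomProperty.appLE @Etale (cov E₀ n).hom inferInstance ⟨_, hV⟩
      ⟨_, hV.preimage (cov E₀ n).hom⟩ le_rfl
  have hker : RingHom.ker ((nbhdι K Y n).app U.1).hom = (K ^ (n + 1)).map (scalU Y U.1) := by
    rw [h2, show RingHom.ker (CommRingCat.ofHom (Ideal.Quotient.mk (K ^ (n + 1)))).hom = K ^ (n + 1) from
      Ideal.mk_ker]
    rfl
  let e : Γ(Y, U.1) ⧸ (K ^ (n + 1)).map (scalU Y U.1) ≃+* Γ(nbhdS K Y n, nbhdι K Y n ⁻¹ᵁ U.1) :=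
    (Ideal.quotEquivOfEq hker.symm).trans (RingHom.quotientKerEquivOfSurjective h1)
  refine ⟨((cov E₀ n).hom.app (nbhdι K Y n ⁻¹ᵁ U.1)).hom.comp e.toRingHom, RingHom.ext fun r => rfl, ?_⟩
  exact RingHom.Etale.respectsIso.2 _ e het

/-- The tower attached to a finite étale cover of the closed part. -/
def tower (E₀ : FEt.Cat (nbhdS K Y 0)) : Tower K Y where
  E n := (cov E₀ n).left
  p := covP E₀
  finite := isFinite_covP E₀
  t := covT E₀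
  t_p := covT_covP E₀
  killed := covP_killed E₀
  surj := covT_surj E₀
  etale := covP_etale E₀

end construction

end Groth.Agent.PBC37
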