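import Groth.Agent.PBC37.Tower
import Groth.Agent.FFun.GoodM
import Groth.Agent.QCoh.ClosedPush
import Groth.Agent.QCoh.DevissageP
import Groth.Agent.RelSpecX.AffHom

/-!
# The coherent formal module of a tower of covers
-/

set_option autoImplicit false
set_option linter.style.haveILetI false

universe u

open CategoryTheory CategoryTheory.Limits AlgebraicGeometry TopologicalSpace Opposite

noncomputable section

namespace Groth.Agent.PBC37

set_option backward.isDefEq.respectTransparency false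
set_option backward.isDefEq.respectTransparency.types false

variable {C : Type u} [CommRing C] {K : Ideal C} {Y : Scheme.{u}} [Y.Over (Spec (CommRingCat.of C))]
  (T : Tower K Y)

namespace Tower

instance (n : ℕ) : IsFinite (T.p n) := T.finite n

/-- The direct image of the structure sheaf. -/
abbrev obj (n : ℕ) : Y.Modules := (Scheme.Modules.pushforward (T.p n)).obj (Coh.structureModule (T.E n))

/-- The transition map on sections. -/
def trApp (n : ℕ) (U : Y.Opens) : Γ(T.E (n + 1), T.p (n + 1) ⁻¹ᵁ U) ⟶ Γ(T.E n, T.p n ⁻¹ᵁ U) :=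
  (AffAlg.algHom (T.p (n + 1)) (T.p n) (T.t n) (T.t_p n)).app (op U)

theorem trApp_eq (n : ℕ) (U : Y.Opens) :
    T.trApp n U = (T.t n).appLE (T.p (n + 1) ⁻¹ᵁ U) (T.p n ⁻¹ᵁ U)
      (RelSpecX.preimage_eq (T.p (n + 1)) (T.p n) (T.t n) (T.t_p n) U).le :=
  RelSpecX.algHom_app _ _ _ _ U

theorem trApp_app (n : ℕ) (U : Y.Opens) (r : Γ(Y, U)) :
    T.trApp n U ((T.p (n + 1)).app U r) = (T.p n).app U r :=
  congr($(NatTrans.congr_app (AffAlg.algHom_comm (T.p (n + 1)) (T.p n) (T.t n) (T.t_p n)) (op U)) r)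

/-- The transition map. -/
def tr (n : ℕ) : T.obj (n + 1) ⟶ T.obj n :=
  ⟨PresheafOfModules.homMk
    { app := fun U => AddCommGrpCat.ofHom
        (show Γ(T.E (n + 1), T.p (n + 1) ⁻¹ᵁ U.unop) →+ Γ(T.E n, T.p n ⁻¹ᵁ U.unop) from
          (T.trApp n U.unop).hom.toAddMonoidHom)
      naturality := fun U V i => by
        ext x
        exact congr($((AffAlg.algHom (T.p (n + 1)) (T.p n) (T.t n) (T.t_p n)).naturality i) x) }
    fun U r x => by
      refine (map_mul (T.trApp n U.unop).hom _ _).trans ?_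
      exact congrArg (· * _) (T.trApp_app n U.unop r)⟩

theorem tr_app (n : ℕ) (U : Y.Opens) (x : Γ(T.E (n + 1), T.p (n + 1) ⁻¹ᵁ U)) :
    (T.tr n).app U x = T.trApp n U x := rfl

/-- The formal module. -/
def system : ℕᵒᵖ ⥤ Y.Modules := Functor.ofOpSequence (X := T.obj) T.tr

theorem system_map (n : ℕ) : T.system.map (homOfLE (Nat.le_succ n)).op = T.tr n :=
  Functor.ofOpSequence_map_homOfLE_succ T.tr n

variable [IsLocallyNoetherian Y]

instance isLocallyNoetherian_E (n : ℕ) : IsLocallyNoetherian (T.E n) :=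
  LocallyOfFiniteType.isLocallyNoetherian (T.p n)

theorem isCoh_obj (n : ℕ) : Coh.IsCoh (T.obj n) :=
  QCoh.isCoh_pushforward_finite (T.p n) QCoh.isCoh_structureModule'

omit [IsLocallyNoetherian Y] in
theorem killedBy (n : ℕ) : Formal.KilledBy (K ^ (n + 1)) (T.obj n) := by
  intro c hc
  refine QCoh.hom_ext_app fun U m => ?_
  refine (FFun.smulMod_app (T.obj n) c U m).trans ?_
  show (T.p n).app U (scalU Y U c) * (show Γ(T.E n, T.p n ⁻¹ᵁ U) from m) = 0
  rw [T.killed n U c hc, zero_mul]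

theorem isCohFormal : Formal.IsCohFormal K T.system := by
  refine ⟨T.isCoh_obj, T.killedBy, fun n => ?_⟩
  suffices h : ∃ h : Formal.smulFamily (K ^ (n + 1)) (T.obj (n + 1)) ≫ T.tr n = 0, IsIso (cokernel.desc _ _ h) by
    rw [T.system_map n]
    exact h
  have h0 := Algz7.smulFamily_comp_eq_zero (T.killedBy n) (T.tr n)
  refine ⟨h0, ?_⟩
  have hM := (T.isCoh_obj (n + 1)).1
  have hC : Coh.IsQCoh (cokernel (Formal.smulFamily (K ^ (n + 1)) (T.obj (n + 1)))) :=
    QCoh.isQCoh_cokernel (QCoh.isQCoh_colimit (Discrete.functor fun _ : ↥(K ^ (n + 1)) => T.obj (n + 1)) fun _ => hM) hM _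
  refine QCoh.isIso_of_isBasis _ Y.isBasis_affineOpens fun U hU => ?_
  obtain ⟨hs, hk⟩ := T.surj n ⟨U, hU⟩ (RelSpecX.preimage_eq (T.p (n + 1)) (T.p n) (T.t n) (T.t_p n) U).le
  rw [← T.trApp_eq] at hs hk
  have hπ := QCoh.app_surjective_of_epi hM hC (cokernel.π (Formal.smulFamily (K ^ (n + 1)) (T.obj (n + 1)))) hU
  have hd : ∀ x, (cokernel.desc _ _ h0).app U
      ((cokernel.π (Formal.smulFamily (K ^ (n + 1)) (T.obj (n + 1)))).app U x) = (T.tr n).app U x := fun x =>
    congr(($(cokernel.π_desc _ _ h0)).app U x)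
  refine ⟨?_, fun y => ?_⟩
  · rw [injective_iff_map_eq_zero]
    intro z hz
    obtain ⟨x, rfl⟩ := hπ z
    rw [hd] at hz
    let x' : Γ(T.E (n + 1), T.p (n + 1) ⁻¹ᵁ U) := x
    have hx : x' ∈ RingHom.ker (T.trApp n U).hom := hz
    rw [hk] at hx
    refine FFun.π_app_eq_zero (T.obj (n + 1)) (K ^ (n + 1)) U ?_
    suffices ∀ z ∈ (K ^ (n + 1)).map (((T.p (n + 1)).app U).hom.comp (scalU Y U)),
        (show Γ(T.obj (n + 1), U) from z) ∈
          (K ^ (n + 1)).map (FFun.φsec U) • (⊤ : Submodule Γ(Y, U) Γ(T.obj (n + 1), U)) from this _ hx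
    intro z hz
    refine Submodule.span_induction (p := fun z _ => ∀ w : Γ(T.E (n + 1), T.p (n + 1) ⁻¹ᵁ U),
      (show Γ(T.obj (n + 1), U) from z * w) ∈
          (K ^ (n + 1)).map (FFun.φsec U) • (⊤ : Submodule Γ(Y, U) Γ(T.obj (n + 1), U))) ?_ ?_ ?_ ?_ hz 1 |>
      (mul_one z ▸ ·)
    · rintro _ ⟨c, hc, rfl⟩ w
      exact Submodule.smul_mem_smul (Ideal.mem_map_of_mem _ hc)
        (Submodule.mem_top (x := (show Γ(T.obj (n + 1), U) from w)))
    · intro w; rw [zero_mul]; exact zero_mem _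
    · intro a b _ _ ha hb w; rw [add_mul]; exact add_mem (ha w) (hb w)
    · intro r a _ ha w; rw [smul_eq_mul, mul_comm r a, mul_assoc]; exact ha _
  · obtain ⟨x, hx⟩ := hs y
    exact ⟨(cokernel.π (Formal.smulFamily (K ^ (n + 1)) (T.obj (n + 1)))).app U x, (hd x).trans hx⟩

end Tower

end Groth.Agent.PBC37
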